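import Cfsg.Agent.TO.LU.Main_m3
import Cfsg.Agent.TO.X7.Grp
import Cfsg.Agent.TO.X.Mult
import Cfsg.Agent.TO.T3.KF
import Cfsg.Agent.TO.Blk_m3
import Cfsg.Agent.Lib.ListFast
import Cfsg.Agent.TO.X5.Abs_mg_m3
import Cfsg.Agent.S2119
import Cfsg.Agent.S0254
import Cfsg.Agent.H430.CfSporOne_mg
import Cfsg.Agent.S2047
import Cfsg.Agent.S2055
import Cfsg.Agent.TO.Rows_m3
import Cfsg.Agent.H315.RatB0.SzRee
import Cfsg.Agent.TO.FO.Box
import Cfsg.Agent.LieClassical.OrthForms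
import Cfsg.Agent.S2693
import Cfsg.Agent.S2694
import Cfsg.Agent.S2695
import Cfsg.Agent.S2696
import Cfsg.Agent.Characters.CCBasic
import Cfsg.Agent.H292.SpCen
import Cfsg.Agent.H95.StemCover
import Cfsg.Agent.S2092
import Cfsg.Agent.LieClassical.HermBasic
import Cfsg.Agent.LieClassical.SUBasic
import Cfsg.Agent.TO.L2.Main
import Cfsg.Agent.H198.UnitGamma
import Cfsg.Agent.LieClassical.HermPerfect
import Cfsg.Agent.S2089
import Cfsg.Agent.S0279
import Cfsg.Agent.TO.DC.Lie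
import Cfsg.Agent.FastGrp
import Cfsg.Agent.Prune
set_option linter.all false

section
prune_inst 0x7ffdbdf9bbb821dfffff7e37aed7dffc3d809fffacdef94b3fe021df2bdf230a0dc53b8589e000fe1ef6421410a87803fbffeeffea6bdc7ffffd5ff41ffbee4fa5e6b508511c88b40f380ff703f0778e7f3fffffffffffffffffffffffffffbeffbfffffffff

-- part: TO/X7F/Main
section
set_option linter.all false
open scoped Cfsg.Agent.FastGrp

/-!
# S4817: the row `F₄` at the prime seven (helper3)
-/

set_option autoImplicit false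
set_option linter.unusedSectionVars false
set_option linter.style.haveILetI false
set_option maxHeartbeats 400000

namespace Cfsg.Agent.TO.X7F

open Cfsg Cfsg.Lie Matrix Module Cfsg.Agent.DL Cfsg.Agent.Nodes Cfsg.Agent.Nodes.RGDChev Cfsg.Agent.KZ.DatX
  Cfsg.Agent.KZ.Exc Cfsg.Agent.TO.X Cfsg.Agent.TO.X.Lat
open Cfsg.Agent.TO.X11 (Em Co ev)

section gen

variable {C : ChevalleyDatum} {l : ℕ} {M : CoxeterMatrix (Fin l)} {hp : IsType C l M} {r : ℕ} [Fact r.Prime] {k : Type}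
  [Field k] [CharP k r] [IsAlgClosed k] {Mx : Matrix (Fin l) (Fin l) ℤ} {X : XF hp r k Mx} {p : ℕ} [Fact p.Prime]
  {Adm : Matrix (Fin l) (Fin l) ℤ → Prop} {S : Type} [Group S] {Q : Subgroup S} {E : Em X.D p Adm S} (T : Co E Q)

variable (X) in
/-- the matrices of the Weyl group -/
noncomputable def WX (z : M.Group) : Matrix (Fin l) (Fin l) ℤ := X.D.Wm z

variable (X) in
theorem WX_eq (z : M.Group) : wm hp z = WX X z := (Wm_eq hp X z).symm

/-- the vectors of `Q` -/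
noncomputable def BB : Submodule (ZMod p) (Fin l → ZMod p) := T.B

/-- the twisting element -/
noncomputable def ww : M.Group := T.w

/-- the points of the torus -/
noncomputable def tt (c : Fin l → kˣ) : ↥(C.group k) := T.t c

theorem tt_mul (a b : Fin l → kˣ) : tt T (a * b) = tt T a * tt T b := T.t_mul a b

theorem tt_inv (a : Fin l → kˣ) : tt T a⁻¹ = (tt T a)⁻¹ := T.t_inv a

theorem tt_one : tt T 1 = 1 := T.t_one

theorem tt_pow (a : Fin l → kˣ) (n : ℕ) : tt T (a ^ n) = tt T a ^ n := T.t_pow a n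

theorem tt_inj {a b : Fin l → kˣ} (h : tt T a = tt T b) : a = b := T.t_inj h

theorem ne_one_iff {u : S} {v : Fin l → ZMod p} (h : E.ι u = tt T (ev T.ζ v)) : u ≠ 1 ↔ v ≠ 0 := (T.eq_one_iff h).not

theorem aut' {σ : MulAut S} (hσ : ∀ u, σ u ∈ Q ↔ u ∈ Q) : ∃ (z : M.Group) (A : Matrix (Fin l) (Fin l) ℤ), Adm A ∧
    (∀ u ∈ Q, ∀ s : Fin l → ZMod p, E.ι u = tt T (ev T.ζ s) → E.ι (σ u) = tt T (ev T.ζ (mv (wm hp z * A) s))) ∧
    ((∀ a, TO.X.Rt C l a → ¬ ∀ s ∈ BB T, vl a s = 0) →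
      ∀ a (c : Fin l → kˣ), E.ι a = tt T c → E.ι (σ a) = tt T (mon (wm hp z * A) c)) := by
  obtain ⟨z, A, h1, h2, h3⟩ := T.aut_form hσ
  simp only [WX_eq X]
  exact ⟨z, A, h1, h2, fun h => h3 (Set.eq_empty_of_forall_notMem fun a ha =>
    h a ((X.rt_iff a).1 (T.mem_Sz.1 ha).1) (T.mem_Sz.1 ha).2)⟩

include T in
theorem comm_Q : Q ≤ Ce Q := fun u hu v hv => E.inj (by
  obtain ⟨a, ha⟩ := T.cov u hu
  obtain ⟨b, hb⟩ := T.cov v hv
  have h1 : E.ι u = tt T (ev T.ζ a) := ha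
  have h2 : E.ι v = tt T (ev T.ζ b) := hb
  rw [map_mul, map_mul, h1, h2, ← tt_mul, ← tt_mul, mul_comm])

theorem lt_of {Γ : Subgroup (MulAut S)} (P : Pure p S Γ Q) {L : List (Matrix (Fin l) (Fin l) ℤ)}
    (hA : ∀ A, Adm A → AdmS p L A) : Lt hp L (BB T) (ww T) Mx where
  two := T.two_le P.nc
  fix s hs := by
    rw [WX_eq X]
    exact T.fix hs
  cut v h1 h2 := by
    simp only [WX_eq X] at h1 h2
    exact T.cut P.odd P.syl h1 h2
  trs := by
    rintro s ⟨u, hu, h⟩ s' ⟨u', hu', h'⟩ h0 h0'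
    obtain ⟨σ, -, h1, rfl⟩ := P.abel (comm_Q T) u hu u' hu' ((ne_one_iff T h).2 h0) ((ne_one_iff T h').2 h0')
    obtain ⟨z, A, h2, h3, -⟩ := aut' T h1
    refine ⟨z, A, hA A h2, ?_, X11.ev_inj T.hζ (tt_inj T ((show E.ι (σ u) = tt T (ev T.ζ s') from h').symm.trans (h3 u hu s h)))⟩
    rintro t ⟨a, ha, h4⟩
    exact ⟨σ a, (h1 a).2 ha, h3 a ha t h4⟩

/-- the centraliser of a regular subgroup with trivial stabiliser lies in the torus -/
theorem cen_tor (h0 : ∀ a, TO.X.Rt C l a → ¬ ∀ s ∈ BB T, vl a s = 0)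
    (h1 : ∀ z : M.Group, (∀ s ∈ BB T, mv (wm hp z) s = s) → z = 1) {b : S} (hb : b ∈ Ce Q) : ∃ c, E.ι b = tt T c := by
  obtain ⟨c, hc, z, m, hz, h2, e⟩ := T.cen_form hb
  simp only [WX_eq X] at h1
  have h3 : c = 1 := Subgroup.mem_bot.1 ((Cfsg.Agent.Nodes.BNOf.RGD.Sup_le fun a ha =>
    (h0 a ((X.rt_iff a).1 (T.mem_Sz.1 ha).1) (T.mem_Sz.1 ha).2).elim) hc)
  rw [h1 z h2] at hz
  obtain ⟨x, hx⟩ := (X.D.mem_T _).1 hz.mem_of_one
  refine ⟨x, ?_⟩
  change _ = T.y * X.D.τ x * T.y⁻¹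
  rw [hx, ← one_mul m, ← h3, ← e]
  group

/-- `α` acts on `BB T` by `f` -/
def Ac (α : MulAut S) (f : Module.End (ZMod p) (BB T)) : Prop :=
  ∀ u ∈ Q, ∀ s : BB T, E.ι u = tt T (ev T.ζ s.1) → E.ι (α u) = tt T (ev T.ζ (f s).1)

theorem Ac.eq {α : MulAut S} {f g : Module.End (ZMod p) (BB T)} (hf : Ac T α f) (hg : Ac T α g) : f = g :=
  LinearMap.ext fun s => by
    obtain ⟨u, hu, h⟩ := s.2
    exact Subtype.ext (X11.ev_inj T.hζ (tt_inj T ((hf u hu s h).symm.trans (hg u hu s h))))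

theorem exists_ac {α : MulAut S} (hα : ∀ u, α u ∈ Q ↔ u ∈ Q) : ∃ f, Ac T α f := by
  obtain ⟨z, A, -, h, -⟩ := aut' T hα
  refine ⟨(en p (wm hp z * A)).restrict (p := BB T) (q := BB T) ?_, fun u hu s hs => h u hu s hs⟩
  rintro t ⟨a, ha, h4⟩
  exact ⟨α a, (hα a).2 ha, h a ha t h4⟩

/-- the action of the local automorphisms -/
noncomputable def act (θ : S → ℂ) : LA Q θ →* Module.End (ZMod p) (BB T) where
  toFun α := (exists_ac T α.2.1).choose
  map_one' := (exists_ac T (1 : LA Q θ).2.1).choose_spec.eq T fun _ _ _ h => h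
  map_mul' α β := (exists_ac T (α * β).2.1).choose_spec.eq T fun u hu s h =>
    (exists_ac T α.2.1).choose_spec _ ((β.2.1 u).2 hu) _ ((exists_ac T β.2.1).choose_spec u hu s h)

theorem ac_act (θ : S → ℂ) (α : LA Q θ) : Ac T α.1 (act T θ α) := (exists_ac T α.2.1).choose_spec

/-- `α` acts on the torus by the matrix `A` -/
def On (α : MulAut S) (A : Matrix (Fin l) (Fin l) ℤ) : Prop :=
  ∀ a (c : Fin l → kˣ), E.ι a = tt T c → E.ι (α a) = tt T (mon A c)

theorem On.mul {α β : MulAut S} {A B : Matrix (Fin l) (Fin l) ℤ} (h : On T α A) (h' : On T β B) : On T (α * β) (A * B) :=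
  fun a c e => by rw [mon_mul]; exact h _ _ (h' a c e)

theorem On.act {θ : S → ℂ} {α : LA Q θ} {A : Matrix (Fin l) (Fin l) ℤ} (h : On T α.1 A) (s : BB T) :
    (act T θ α s).1 = mv A s.1 := by
  obtain ⟨u, hu, e⟩ := s.2
  exact X11.ev_inj T.hζ (tt_inj T ((ac_act T θ α u hu s e).symm.trans ((h u _ e).trans
    (congrArg (tt T) (X11.ev_mv T.hζ A s.1).symm))))

/-- `α` acts like an element of the Weyl group times a power of `r` -/
def IsW (α : MulAut S) : Prop := ∃ (z : M.Group) (j : ℕ), On T α ((r : ℤ) ^ j • wm hp z)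

theorem IsW.one : IsW T 1 := ⟨1, 0, fun a c e => by rw [pow_zero, one_smul, map_one, mon_one]; exact e⟩

theorem IsW.mul {α β : MulAut S} (h : IsW T α) (h' : IsW T β) : IsW T (α * β) := by
  obtain ⟨z, j, h⟩ := h
  obtain ⟨z', j', h'⟩ := h'
  refine ⟨z * z', j + j', ?_⟩
  have h1 := h.mul T h'
  rwa [smul_mul_smul_comm, ← map_mul, ← pow_add] at h1

/-- the local automorphisms of this kind -/
def Wt [Finite S] (θ : S → ℂ) : Subgroup (LA Q θ) where
  carrier := {α | IsW T α.1}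
  one_mem' := IsW.one T
  mul_mem' h h' := IsW.mul T h h'
  inv_mem' {α} h := by
    have h1 : ∀ n : ℕ, IsW T (α ^ n).1 := fun n => by
      induction n with
      | zero => exact IsW.one T
      | succ n ih => rw [pow_succ]; exact ih.mul T h
    have h2 : α⁻¹ = α ^ (Nat.card (LA Q θ) - 1) := by
      rw [inv_eq_iff_mul_eq_one, ← pow_succ', Nat.sub_add_cancel Nat.card_pos, pow_card_eq_one']
    rw [h2]
    exact h1 _

end gen

theorem odd_orderOf {k R : Type} [Field k] [CharP k 2] {G Y : Type} [Group G] [Finite G] [Group Y] {ι : G →* Y}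
    (hι : Function.Injective ι) {t : (R → kˣ) → Y} (h1 : t 1 = 1) (hp : ∀ a n, t (a ^ n) = t a ^ n)
    (hi : Function.Injective t) {a : G} {c : R → kˣ} (h : ι a = t c) : Odd (orderOf a) := by
  rw [← Nat.not_even_iff_odd]
  rintro ⟨n, hn⟩
  have h2 : (c ^ n) ^ 2 = 1 := hi (by rw [← pow_mul, hp, ← h, ← map_pow, mul_two, ← hn, pow_orderOf_eq_one, map_one, h1])
  have h3 : c ^ n = 1 := funext fun i => Units.ext (by
    have h4 : ((c ^ n) i : k) ^ 2 = 1 := by
      rw [← Units.val_pow_eq_pow_val, show (c ^ n) i ^ 2 = 1 from congrFun h2 i, Units.val_one]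
    rcases sq_eq_one_iff.1 h4 with e | e
    · exact e
    · rw [e, CharTwo.neg_eq]
      rfl)
  have h4 : a ^ n = 1 := hι (by rw [map_pow, h, ← hp, h3, h1, map_one])
  have h5 := orderOf_pos a
  have := Nat.le_of_dvd (by omega) (orderOf_dvd_of_pow_eq_one h4)
  omega

theorem card_W7 : ¬ 7 ∣ Nat.card CoxeterMatrix.F₄.Group := by rw [card_W_F4]; norm_num

theorem expo {p : ℕ} [Fact p.Prime] {S : Type} [Group S] {Γ : Subgroup (MulAut S)} {Q : Subgroup S} (P : Pure p S Γ Q) :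
    ∀ u ∈ Q, u ^ p = 1 := fun u hu => P.expo u (BHZ.Nil.self_le_KK Q hu) (by
  obtain ⟨j, hj⟩ := P.pg ⟨u, hu⟩
  exact FO.pElt_of_pow (congrArg Subtype.val hj))

/-- characteristic two -/
theorem core [Fact (Nat.Prime 7)] {k : Type} [Field k] [CharP k 2] [IsAlgClosed k] {e : ℕ}
    {X : XF hpF4 2 k (((2 : ℕ) : ℤ) ^ e • 1)} {G : Type} [Group G] [Finite G] (E : Em X.D 7 (AdmL 2 [1, GamF]) G)
    {M : Ideal AlgInt} {b : Set (IrrCharacter G)} {D : Subgroup G} (H : Hyp 7 M b D (MonoidHom.id G)) : False := by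
  haveI := finite_W hpF4 CoxeterMatrix.F₄.toCoxeterSystem
  have P := blk.pure G 7 M b D G _ H
  rw [Subgroup.map_id] at P
  obtain ⟨T⟩ := X11.exists_co (by norm_num) card_W7 E (expo P)
  have hL := lt_of T P fun _ => admS_of_admL (by norm_num) Nat.prime_two (by norm_num)
  obtain ⟨h2, h0⟩ := lat7 hL
  have hfix : ∀ z, (∀ s ∈ BB T, mv (wm hpF4 z) s = s) → z = 1 := fun z hz =>
    eq_one_of_fix hpF4 rho_F4 (S := BB T) h0 card_W7 pow_card_eq_one' hz
  obtain ⟨θ, h⟩ := blk.can0 G 7 M b D H.hM H.hb H.hD (comm_Q T)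
  obtain ⟨htr, -⟩ := blk.can2 G 7 M b D θ H.toTwo h
  have hB : BB T ≠ ⊥ := fun e => by
    rw [e] at h2
    simp at h2
  obtain ⟨g, c, hc, -⟩ := hL.cut' (ab_one _) (admS_of_admF (by norm_num) Nat.prime_two (by norm_num) ⟨e, rfl⟩)
  have hpow : ∀ j : ℕ, ((((2 : ℕ) : ℤ) ^ j : ℤ) : ZMod 7) ≠ 0 := fun j => by
    push_cast
    exact pow_ne_zero _ two_ne
  obtain ⟨α, ⟨z, j, hα⟩, β, ⟨z', j', hβ⟩, e1⟩ := anti_end h2 (ρ := act T θ) (by norm_num) (fun s s' h3 h4 => by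
      obtain ⟨u, hu, e1⟩ := s.2
      obtain ⟨u', hu', e2⟩ := s'.2
      obtain ⟨α, hα, rfl⟩ := htr u hu u' hu' ((ne_one_iff T e1).2 fun e => h3 (Subtype.ext e))
        ((ne_one_iff T e2).2 fun e => h4 (Subtype.ext e))
      exact ⟨⟨α, hα⟩, Subtype.ext (X11.ev_inj T.hζ (tt_inj T
        ((show E.ι (α u) = tt T (ev T.ζ s'.1) from e2).symm.trans (ac_act T θ ⟨α, hα⟩ u hu s e1))))⟩)
    (Wt T θ) (fun α β hα hβ => by
      have key : ∀ γ : LA D θ, γ ∉ Wt T θ → ∃ (z : CoxeterMatrix.F₄.Group) (j : ℕ),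
          On T γ.1 (((2 : ℕ) : ℤ) ^ j • (wm hpF4 z * GamF)) := fun γ hγ => by
        obtain ⟨z, A, ⟨j, B, hB, rfl⟩, -, h3⟩ := aut' T γ.2.1
        rw [Matrix.mul_smul] at h3
        rcases List.mem_pair.1 hB with rfl | rfl
        · rw [mul_one] at h3
          exact (hγ ⟨z, j, h3 h0⟩).elim
        · exact ⟨z, j, h3 h0⟩
      obtain ⟨z, j, h3⟩ := key α hα
      obtain ⟨z', j', h4⟩ := key β hβ
      obtain ⟨z'', h5⟩ := gam_wm z'
      refine ⟨z * z'', j + j' + 1, ?_⟩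
      have h6 := h3.mul T h4
      rwa [smul_mul_smul_comm, mul_assoc, ← mul_assoc GamF, h5, mul_assoc, gam_sq, Matrix.mul_smul, Matrix.mul_smul, mul_one,
        smul_smul, ← map_mul, ← pow_add, show (2 : ℤ) = ((2 : ℕ) : ℤ) from rfl, ← pow_succ] at h6)
    (n := Nat.card CoxeterMatrix.F₄.Group) Nat.card_pos.ne' (by
      rintro α ⟨z, i, hα⟩ j h3 h4
      have h5 : ∀ s : BB T, (act T θ α s).1 = ((((2 : ℕ) : ℤ) ^ i : ℤ) : ZMod 7) • mv (wm hpF4 z) s.1 := fun s => by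
        rw [hα.act T, smul_mv]
      have h6 : z ∈ Big.NS (Big.red 7 (wm hpF4)) (BB T) := fun s hs => by
        have := (act T θ α ⟨s, hs⟩).2
        rwa [h5, (BB T).smul_mem_iff (hpow i)] at this
      have h7 : act T θ α = ((((2 : ℕ) : ℤ) ^ i : ℤ) : ZMod 7) • Big.res _ _ ⟨z, h6⟩ :=
        LinearMap.ext fun s => Subtype.ext (h5 s)
      have h8 := congrArg Units.val (h4 (Units.mk0 _ (hpow i)))
      rw [Units.val_pow_eq_pow_val, Units.val_mk0] at h8
      rw [map_pow, h7, smul_pow, h8, map_smul, map_smul, ← map_pow,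
        Big.tr_pow (Big.cast_ne card_W7) (Big.ratC_red 7 _) (hc.full hB) _ h3 h4])
  -- the two automorphisms anticommute on the lattice
  have h3 := hα.mul T hβ
  have h4 := hβ.mul T hα
  rw [smul_mul_smul_comm, ← map_mul, ← pow_add] at h3 h4
  rw [add_comm j' j] at h4
  obtain ⟨u, hu⟩ : ∃ u, wm hpF4 u = -1 := ⟨_, (wm_wd hpF4 _).trans neg_F4⟩
  have h5 : wm hpF4 (z' * z) = -wm hpF4 (z * z') := by
    have h6 := hfix ((z * z')⁻¹ * u * (z' * z)) fun s hs => by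
      have h7 := congrArg Subtype.val (LinearMap.congr_fun e1 ⟨s, hs⟩)
      rw [LinearMap.neg_apply, Submodule.coe_neg, On.act T (α := β * α) h4, On.act T (α := α * β) h3, smul_mv, smul_mv,
        ← smul_neg] at h7
      have h8 : ∀ v : Fin 4 → ZMod 7, mv (wm hpF4 u) (-v) = v := fun v => by
        rw [hu, ← neg_one_smul ℤ (1 : Matrix (Fin 4) (Fin 4) ℤ), smul_mv, mv_one]
        simp
      rw [map_mul, map_mul, mv_mul, mv_mul, smul_right_injective _ (hpow _) h7, h8, ← mv_mul, ← map_mul, inv_mul_cancel,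
        map_one, mv_one]
    rw [mul_assoc, inv_mul_eq_one] at h6
    rw [h6, map_mul (wm hpF4) u, hu, neg_one_mul, neg_neg]
  refine blk.false_of_kr H.toTwo H.perf h fun x hx _ => ?_
  have hδ : α.1 * β.1 * (β.1 * α.1)⁻¹ ∈ LA D θ := mul_mem (mul_mem α.2 β.2) (inv_mem (mul_mem β.2 α.2))
  obtain ⟨cx, hcx⟩ := cen_tor T h0 hfix hx
  refine h.kr_of_inv hδ hx (fun y hy => E.inj ?_) (E.inj ?_) (odd_orderOf E.inj (tt_one T) (tt_pow T) (fun _ _ => tt_inj T) hcx)
    (by rw [pow_orderOf_eq_one]; exact one_mem _)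
  · obtain ⟨cy, hcy⟩ := cen_tor T h0 hfix hy
    rw [map_mul, map_mul, hcx, hcy, ← tt_mul, ← tt_mul, mul_comm]
  · obtain ⟨cy, hcy⟩ := cen_tor T h0 hfix ((TO.Cn.la_Ce (inv_mem (mul_mem β.2 α.2)) x).2 hx)
    have h6 := h4 _ _ hcy
    rw [MulAut.apply_inv_self, h5, smul_neg, mon_neg, tt_inv] at h6
    exact (h3 _ _ hcy).trans (by rw [map_inv, h6, inv_inv])

/-- **`F₄(q)`, `p = 7`** -/
theorem f4_seven : RF4 7 := by
  intro F _ _ r e _ _ hF h2 hr G _ _ σ M b D H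
  haveI : Fact (Nat.Prime 7) := ⟨by norm_num⟩
  by_cases h : r = 2
  · subst h
    obtain ⟨k, _, _, _, X, ⟨s⟩⟩ := has_F4two hF
    have h1 := (zd_F4 (hF ▸ h2)).inj H
    refine core (X7.em (s.congr (MulEquiv.ofBijective σ h1)) (Nat.coprime_one_left 7))
      { H with surj := Function.surjective_id, ker := ?_ }
    rw [← H.ker, (MonoidHom.ker_eq_bot_iff σ).2 h1.1, MonoidHom.ker_id]
  · obtain ⟨k, _, _, _, X, ⟨s⟩⟩ := has_F4 hF h
    have P := blk.pure G 7 M b D _ σ H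
    obtain ⟨T⟩ := X11.exists_co hr card_W7 (X7.em s (Nat.coprime_one_left 7)) (expo P)
    exact lat_F4_seven rfl (lt_of T P fun _ => admS_of_admF (by norm_num) Fact.out hr)
      (admS_of_admF (by norm_num) Fact.out hr ⟨e, rfl⟩)

end Cfsg.Agent.TO.X7F
end

-- part: TO/E6/Lat
section
prune_inst 0x200064447de20000001c851282001c27b6000430104b0c0075e2094205cf5c21ac43a661ebe01c008a1e9c553835004001100140423000000a003800011b05a1900042081364030c6e0089809082000000000000000000000000000000041004000000000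
set_option linter.all false
open scoped Cfsg.Agent.FastGrp

/-- decoders of the packed data (elaboration time only) -/
private noncomputable def pk61d (b S i : Nat) : Nat := Nat.mod (Nat.shiftRight S (Nat.mul b i)) (Nat.shiftLeft (nat_lit 1) b)
private noncomputable def pk61c {α : Type} (t : Nat) (a : α) (f : Nat → α) : α := Nat.rec a (fun k _ => f k) t
private noncomputable def pk61f {α : Type} (t : Nat) (f : Nat → α) : α := Nat.rec (f Nat.zero) (fun k _ => f (Nat.succ k)) t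
private noncomputable def pk61z (t : Nat) : Int := pk61f t fun t =>
  pk61c (Nat.mod t (nat_lit 2)) (Int.ofNat (Nat.div t (nat_lit 2))) fun _ => Int.negSucc (Nat.div t (nat_lit 2))
private noncomputable def pk61l {α : Type} (f : Nat → α) (s e : Nat) (tl : List α) : List α :=
  pk61f e fun e => Nat.rec tl (fun k ih => List.cons (pk61f (Nat.sub e (Nat.succ k)) f) ih) (Nat.sub e s)

/-!
# S4817, rows `E₆(q)`, `²E₆(q)` at `p = 3`: the lattice facts (helper51)
-/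

set_option autoImplicit false
set_option maxRecDepth 100000
set_option Elab.async false

namespace Cfsg.Agent.TO.E6.Lat

open Cfsg Cfsg.Lie Matrix Cfsg.Agent.TO.X Cfsg.Agent.TO.X.Stab Cfsg.Agent.KZ.DatX Cfsg.Agent.Nodes
open Cfsg.Agent.ChevalleyStructure.CoxeterGeomTypes
open Cfsg.Agent.TO.X.Pl (cz)
open Cfsg.Agent.TO.X7 (nz)

/-- the 20 good matrices -/
noncomputable def GL0 : List LM :=
  (by
  refine (?fq9001 : ((pk61l (fun i1 => (pk61l (fun i2 => (pk61l (fun i3 => (pk61z (pk61d (nat_lit 3) 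
    (nat_lit 0x24001000009208001000104bad908000900049200001000008bad92400100000924000022eb6400412eb64001049200000224000004153448bad9092400002400000041000414d122d92400020800000410010400020924100002eb64900000008008025b2500005344890000020000410124820002eb6500000010400022d92420005344900000000800804904090002eb642000002000041059209000534482000000414d120592000412400000802eb64001009208004140000008053448bad9012480041080000080080009000059200041534480080080009000059214d1200104001024001000025b254d1200200001008000900049040bad9002014d1224001000009240bad9000094d12) i3))) (Nat.mul (nat_lit 6) i2) (Nat.mul (nat_lit 6) (Nat.succ i2)) List.nil)) (Nat.mul (nat_lit 6) i1) (Nat.mul (nat_lit 6) (Nat.succ i1)) List.nil)) (nat_lit 0) (nat_lit 20) List.nil) : List LM)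
    = ?xq9001 → (List LM)) ?hq9001; (case hq9001 => (set_option maxRecDepth 1000000 in set_option simprocs false in conv => lhs; reduce; dsimp only)); intro _; exact ?xq9001 : List LM)

/-- the other 34 matrices -/
noncomputable def RL0 : List LM := [
  [[.ofNat 1, .ofNat 1, .ofNat 2, .ofNat 3, .ofNat 2, .ofNat 1], [.ofNat 0, .ofNat 0, .ofNat 0, .ofNat 0, .ofNat 1, .ofNat 0], [.negSucc 0, .negSucc 1, .negSucc 1, .negSucc 2, .negSucc 1, .negSucc 0], [.ofNat 1, .ofNat 1, .ofNat 1, .ofNat 1, .ofNat 0, .ofNat 0], [.negSucc 0, .ofNat 0, .negSucc 0, .ofNat 0, .ofNat 0, .ofNat 0], [.ofNat 0, .ofNat 0, .ofNat 1, .ofNat 0, .ofNat 0, .ofNat 0]],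
  [[.ofNat 1, .ofNat 1, .ofNat 2, .ofNat 3, .ofNat 2, .ofNat 1], [.ofNat 0, .ofNat 0, .ofNat 0, .ofNat 0, .ofNat 0, .ofNat 1], [.negSucc 0, .negSucc 1, .negSucc 1, .negSucc 2, .negSucc 1, .negSucc 0], [.ofNat 0, .ofNat 1, .ofNat 1, .ofNat 1, .ofNat 1, .ofNat 0], [.ofNat 1, .ofNat 0, .ofNat 0, .ofNat 0, .ofNat 0, .ofNat 0], [.negSucc 0, .ofNat 0, .negSucc 0, .ofNat 0, .ofNat 0, .ofNat 0]],
  [[.ofNat 1, .ofNat 1, .ofNat 2, .ofNat 3, .ofNat 2, .ofNat 1], [.ofNat 0, .ofNat 0, .ofNat 0, .ofNat 0, .negSucc 0, .negSucc 0], [.negSucc 0, .negSucc 1, .negSucc 1, .negSucc 2, .negSucc 1, .negSucc 0], [.ofNat 0, .ofNat 1, .ofNat 0, .ofNat 1, .ofNat 1, .ofNat 1], [.ofNat 0, .ofNat 0, .ofNat 1, .ofNat 0, .ofNat 0, .ofNat 0], [.ofNat 1, .ofNat 0, .ofNat 0, .ofNat 0, .ofNat 0, .ofNat 0]],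
  [[.ofNat 1, .ofNat 1, .ofNat 2, .ofNat 3, .ofNat 2, .ofNat 1], [.negSucc 0, .ofNat 0, .negSucc 0, .ofNat 0, .ofNat 0, .ofNat 0], [.negSucc 0, .negSucc 1, .negSucc 1, .negSucc 2, .negSucc 1, .negSucc 0], [.ofNat 1, .ofNat 1, .ofNat 1, .ofNat 1, .ofNat 0, .ofNat 0], [.ofNat 0, .ofNat 0, .ofNat 0, .ofNat 0, .ofNat 1, .ofNat 0], [.ofNat 0, .ofNat 0, .ofNat 0, .ofNat 0, .ofNat 0, .ofNat 1]],
  [[.ofNat 1, .ofNat 0, .ofNat 0, .ofNat 0, .ofNat 0, .ofNat 0], [.ofNat 1, .ofNat 1, .ofNat 2, .ofNat 3, .ofNat 2, .ofNat 1], [.ofNat 0, .ofNat 0, .ofNat 1, .ofNat 0, .ofNat 0, .ofNat 0], [.negSucc 0, .negSucc 0, .negSucc 1, .negSucc 1, .negSucc 0, .negSucc 0], [.ofNat 0, .ofNat 0, .ofNat 0, .ofNat 0, .ofNat 0, .ofNat 1], [.ofNat 0, .ofNat 0, .ofNat 0, .ofNat 0, .negSucc 0, .negSucc 0]],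
  [[.ofNat 1, .ofNat 0, .ofNat 0, .ofNat 0, .ofNat 0, .ofNat 0], [.ofNat 0, .ofNat 1, .ofNat 0, .ofNat 0, .ofNat 0, .ofNat 0], [.ofNat 0, .ofNat 0, .ofNat 1, .ofNat 0, .ofNat 0, .ofNat 0], [.ofNat 0, .ofNat 0, .ofNat 0, .ofNat 1, .ofNat 0, .ofNat 0], [.ofNat 0, .ofNat 0, .ofNat 0, .ofNat 0, .ofNat 1, .ofNat 0], [.ofNat 0, .ofNat 0, .ofNat 0, .ofNat 0, .ofNat 0, .ofNat 1]],
  [[.ofNat 1, .ofNat 0, .ofNat 0, .ofNat 0, .ofNat 0, .ofNat 0], [.ofNat 0, .ofNat 0, .ofNat 0, .ofNat 0, .ofNat 1, .ofNat 0], [.ofNat 0, .ofNat 0, .ofNat 1, .ofNat 0, .ofNat 0, .ofNat 0], [.ofNat 0, .ofNat 0, .ofNat 0, .ofNat 1, .ofNat 0, .ofNat 0], [.ofNat 0, .ofNat 1, .ofNat 0, .ofNat 0, .ofNat 0, .ofNat 0], [.negSucc 0, .negSucc 1, .negSucc 1, .negSucc 2, .negSucc 1, .negSucc 0]],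
  [[.ofNat 1, .ofNat 0, .ofNat 0, .ofNat 0, .ofNat 0, .ofNat 0], [.ofNat 0, .ofNat 0, .ofNat 0, .ofNat 0, .ofNat 0, .ofNat 1], [.ofNat 0, .ofNat 0, .ofNat 1, .ofNat 0, .ofNat 0, .ofNat 0], [.negSucc 0, .negSucc 0, .negSucc 1, .negSucc 1, .negSucc 0, .negSucc 0], [.ofNat 1, .ofNat 1, .ofNat 2, .ofNat 3, .ofNat 2, .ofNat 1], [.ofNat 0, .ofNat 1, .ofNat 0, .ofNat 0, .ofNat 0, .ofNat 0]],
  [[.ofNat 1, .ofNat 0, .ofNat 0, .ofNat 0, .ofNat 0, .ofNat 0], [.ofNat 0, .ofNat 0, .ofNat 0, .ofNat 0, .negSucc 0, .negSucc 0], [.ofNat 0, .ofNat 0, .ofNat 1, .ofNat 0, .ofNat 0, .ofNat 0], [.ofNat 0, .ofNat 1, .ofNat 0, .ofNat 1, .ofNat 1, .ofNat 1], [.negSucc 0, .negSucc 1, .negSucc 1, .negSucc 2, .negSucc 1, .negSucc 0], [.ofNat 1, .ofNat 1, .ofNat 2, .ofNat 3, .ofNat 2, .ofNat 1]],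
  [[.ofNat 1, .ofNat 0, .ofNat 0, .ofNat 0, .ofNat 0, .ofNat 0], [.negSucc 0, .negSucc 1, .negSucc 1, .negSucc 2, .negSucc 1, .negSucc 0], [.ofNat 0, .ofNat 0, .ofNat 1, .ofNat 0, .ofNat 0, .ofNat 0], [.ofNat 0, .ofNat 1, .ofNat 0, .ofNat 1, .ofNat 1, .ofNat 1], [.ofNat 0, .ofNat 0, .ofNat 0, .ofNat 0, .negSucc 0, .negSucc 0], [.ofNat 0, .ofNat 0, .ofNat 0, .ofNat 0, .ofNat 1, .ofNat 0]],
  [[.ofNat 0, .ofNat 1, .ofNat 0, .ofNat 0, .ofNat 0, .ofNat 0], [.ofNat 1, .ofNat 0, .ofNat 0, .ofNat 0, .ofNat 0, .ofNat 0], [.ofNat 1, .ofNat 1, .ofNat 2, .ofNat 3, .ofNat 2, .ofNat 1], [.negSucc 0, .negSucc 0, .negSucc 0, .negSucc 1, .negSucc 1, .negSucc 0], [.ofNat 0, .ofNat 0, .ofNat 0, .ofNat 0, .ofNat 1, .ofNat 0], [.ofNat 0, .ofNat 0, .ofNat 0, .ofNat 0, .ofNat 0, .ofNat 1]],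
  [[.ofNat 0, .ofNat 1, .ofNat 0, .ofNat 0, .ofNat 0, .ofNat 0], [.ofNat 0, .ofNat 0, .ofNat 0, .ofNat 0, .ofNat 1, .ofNat 0], [.ofNat 1, .ofNat 1, .ofNat 2, .ofNat 3, .ofNat 2, .ofNat 1], [.negSucc 0, .negSucc 0, .negSucc 0, .negSucc 1, .negSucc 1, .negSucc 0], [.ofNat 1, .ofNat 0, .ofNat 0, .ofNat 0, .ofNat 0, .ofNat 0], [.negSucc 0, .ofNat 0, .negSucc 0, .ofNat 0, .ofNat 0, .ofNat 0]],
  [[.ofNat 0, .ofNat 1, .ofNat 0, .ofNat 0, .ofNat 0, .ofNat 0], [.ofNat 0, .ofNat 0, .ofNat 0, .ofNat 0, .ofNat 0, .ofNat 1], [.ofNat 1, .ofNat 1, .ofNat 2, .ofNat 3, .ofNat 2, .ofNat 1], [.negSucc 0, .negSucc 0, .negSucc 1, .negSucc 1, .negSucc 0, .negSucc 0], [.ofNat 0, .ofNat 0, .ofNat 1, .ofNat 0, .ofNat 0, .ofNat 0], [.ofNat 1, .ofNat 0, .ofNat 0, .ofNat 0, .ofNat 0, .ofNat 0]],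
  [[.ofNat 0, .ofNat 1, .ofNat 0, .ofNat 0, .ofNat 0, .ofNat 0], [.ofNat 0, .ofNat 0, .ofNat 0, .ofNat 0, .negSucc 0, .negSucc 0], [.ofNat 1, .ofNat 1, .ofNat 2, .ofNat 3, .ofNat 2, .ofNat 1], [.ofNat 0, .negSucc 0, .negSucc 0, .negSucc 1, .negSucc 0, .ofNat 0], [.negSucc 0, .ofNat 0, .negSucc 0, .ofNat 0, .ofNat 0, .ofNat 0], [.ofNat 0, .ofNat 0, .ofNat 1, .ofNat 0, .ofNat 0, .ofNat 0]],
  [[.ofNat 0, .ofNat 0, .ofNat 1, .ofNat 0, .ofNat 0, .ofNat 0], [.ofNat 0, .ofNat 1, .ofNat 0, .ofNat 0, .ofNat 0, .ofNat 0], [.negSucc 0, .ofNat 0, .negSucc 0, .ofNat 0, .ofNat 0, .ofNat 0], [.ofNat 1, .ofNat 0, .ofNat 1, .ofNat 1, .ofNat 1, .ofNat 0], [.ofNat 0, .ofNat 0, .ofNat 0, .ofNat 0, .ofNat 0, .ofNat 1], [.ofNat 0, .ofNat 0, .ofNat 0, .ofNat 0, .negSucc 0, .negSucc 0]],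
  [[.ofNat 0, .ofNat 0, .ofNat 1, .ofNat 0, .ofNat 0, .ofNat 0], [.negSucc 0, .negSucc 1, .negSucc 1, .negSucc 2, .negSucc 1, .negSucc 0], [.negSucc 0, .ofNat 0, .negSucc 0, .ofNat 0, .ofNat 0, .ofNat 0], [.ofNat 1, .ofNat 1, .ofNat 1, .ofNat 1, .ofNat 0, .ofNat 0], [.ofNat 0, .ofNat 0, .ofNat 0, .ofNat 0, .ofNat 1, .ofNat 0], [.ofNat 0, .ofNat 0, .ofNat 0, .ofNat 0, .ofNat 0, .ofNat 1]],
  [[.ofNat 0, .ofNat 0, .ofNat 0, .ofNat 0, .ofNat 1, .ofNat 0], [.ofNat 1, .ofNat 0, .ofNat 0, .ofNat 0, .ofNat 0, .ofNat 0], [.ofNat 0, .ofNat 0, .ofNat 0, .ofNat 0, .negSucc 0, .negSucc 0], [.ofNat 0, .ofNat 0, .ofNat 1, .ofNat 1, .ofNat 1, .ofNat 1], [.ofNat 0, .ofNat 1, .ofNat 0, .ofNat 0, .ofNat 0, .ofNat 0], [.negSucc 0, .negSucc 1, .negSucc 1, .negSucc 2, .negSucc 1, .negSucc 0]],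
  [[.ofNat 0, .ofNat 0, .ofNat 0, .ofNat 0, .ofNat 1, .ofNat 0], [.ofNat 0, .ofNat 1, .ofNat 0, .ofNat 0, .ofNat 0, .ofNat 0], [.ofNat 0, .ofNat 0, .ofNat 0, .ofNat 0, .negSucc 0, .negSucc 0], [.ofNat 0, .ofNat 0, .ofNat 1, .ofNat 1, .ofNat 1, .ofNat 1], [.ofNat 1, .ofNat 0, .ofNat 0, .ofNat 0, .ofNat 0, .ofNat 0], [.negSucc 0, .ofNat 0, .negSucc 0, .ofNat 0, .ofNat 0, .ofNat 0]],
  [[.ofNat 0, .ofNat 0, .ofNat 0, .ofNat 0, .ofNat 1, .ofNat 0], [.ofNat 0, .ofNat 0, .ofNat 1, .ofNat 0, .ofNat 0, .ofNat 0], [.ofNat 0, .ofNat 0, .ofNat 0, .ofNat 0, .negSucc 0, .negSucc 0], [.ofNat 0, .ofNat 1, .ofNat 0, .ofNat 1, .ofNat 1, .ofNat 1], [.negSucc 0, .negSucc 1, .negSucc 1, .negSucc 2, .negSucc 1, .negSucc 0], [.ofNat 1, .ofNat 1, .ofNat 2, .ofNat 3, .ofNat 2, .ofNat 1]],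
  [[.ofNat 0, .ofNat 0, .ofNat 0, .ofNat 0, .ofNat 1, .ofNat 0], [.negSucc 0, .ofNat 0, .negSucc 0, .ofNat 0, .ofNat 0, .ofNat 0], [.ofNat 0, .ofNat 0, .ofNat 0, .ofNat 0, .negSucc 0, .negSucc 0], [.ofNat 0, .negSucc 0, .negSucc 0, .negSucc 1, .negSucc 0, .ofNat 0], [.ofNat 1, .ofNat 1, .ofNat 2, .ofNat 3, .ofNat 2, .ofNat 1], [.ofNat 0, .ofNat 1, .ofNat 0, .ofNat 0, .ofNat 0, .ofNat 0]],
  [[.ofNat 0, .ofNat 0, .ofNat 0, .ofNat 0, .ofNat 0, .ofNat 1], [.ofNat 1, .ofNat 0, .ofNat 0, .ofNat 0, .ofNat 0, .ofNat 0], [.ofNat 0, .ofNat 0, .ofNat 0, .ofNat 0, .ofNat 1, .ofNat 0], [.negSucc 0, .negSucc 0, .negSucc 0, .negSucc 1, .negSucc 1, .negSucc 0], [.ofNat 1, .ofNat 1, .ofNat 2, .ofNat 3, .ofNat 2, .ofNat 1], [.ofNat 0, .ofNat 1, .ofNat 0, .ofNat 0, .ofNat 0, .ofNat 0]],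
  [[.ofNat 0, .ofNat 0, .ofNat 0, .ofNat 0, .ofNat 0, .ofNat 1], [.ofNat 0, .ofNat 1, .ofNat 0, .ofNat 0, .ofNat 0, .ofNat 0], [.ofNat 0, .ofNat 0, .ofNat 0, .ofNat 0, .ofNat 1, .ofNat 0], [.ofNat 0, .ofNat 0, .ofNat 0, .ofNat 1, .ofNat 0, .ofNat 0], [.ofNat 0, .ofNat 0, .ofNat 1, .ofNat 0, .ofNat 0, .ofNat 0], [.ofNat 1, .ofNat 0, .ofNat 0, .ofNat 0, .ofNat 0, .ofNat 0]],
  [[.ofNat 0, .ofNat 0, .ofNat 0, .ofNat 0, .ofNat 0, .ofNat 1], [.ofNat 0, .ofNat 0, .ofNat 1, .ofNat 0, .ofNat 0, .ofNat 0], [.ofNat 0, .ofNat 0, .ofNat 0, .ofNat 0, .ofNat 1, .ofNat 0], [.ofNat 0, .ofNat 0, .ofNat 0, .ofNat 1, .ofNat 0, .ofNat 0], [.ofNat 0, .ofNat 1, .ofNat 0, .ofNat 0, .ofNat 0, .ofNat 0], [.negSucc 0, .negSucc 1, .negSucc 1, .negSucc 2, .negSucc 1, .negSucc 0]],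
  [[.ofNat 0, .ofNat 0, .ofNat 0, .ofNat 0, .ofNat 0, .ofNat 1], [.negSucc 0, .ofNat 0, .negSucc 0, .ofNat 0, .ofNat 0, .ofNat 0], [.ofNat 0, .ofNat 0, .ofNat 0, .ofNat 0, .ofNat 1, .ofNat 0], [.ofNat 1, .ofNat 1, .ofNat 1, .ofNat 1, .ofNat 0, .ofNat 0], [.negSucc 0, .negSucc 1, .negSucc 1, .negSucc 2, .negSucc 1, .negSucc 0], [.ofNat 1, .ofNat 1, .ofNat 2, .ofNat 3, .ofNat 2, .ofNat 1]],
  [[.ofNat 0, .ofNat 0, .ofNat 0, .ofNat 0, .negSucc 0, .negSucc 0], [.ofNat 1, .ofNat 0, .ofNat 0, .ofNat 0, .ofNat 0, .ofNat 0], [.ofNat 0, .ofNat 0, .ofNat 0, .ofNat 0, .ofNat 0, .ofNat 1], [.ofNat 0, .ofNat 1, .ofNat 1, .ofNat 1, .ofNat 1, .ofNat 0], [.negSucc 0, .negSucc 1, .negSucc 1, .negSucc 2, .negSucc 1, .negSucc 0], [.ofNat 1, .ofNat 1, .ofNat 2, .ofNat 3, .ofNat 2, .ofNat 1]],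
  [[.ofNat 0, .ofNat 0, .ofNat 0, .ofNat 0, .negSucc 0, .negSucc 0], [.ofNat 0, .ofNat 1, .ofNat 0, .ofNat 0, .ofNat 0, .ofNat 0], [.ofNat 0, .ofNat 0, .ofNat 0, .ofNat 0, .ofNat 0, .ofNat 1], [.ofNat 1, .ofNat 0, .ofNat 1, .ofNat 1, .ofNat 1, .ofNat 0], [.negSucc 0, .ofNat 0, .negSucc 0, .ofNat 0, .ofNat 0, .ofNat 0], [.ofNat 0, .ofNat 0, .ofNat 1, .ofNat 0, .ofNat 0, .ofNat 0]],
  [[.ofNat 0, .ofNat 0, .ofNat 0, .ofNat 0, .negSucc 0, .negSucc 0], [.ofNat 0, .ofNat 0, .ofNat 1, .ofNat 0, .ofNat 0, .ofNat 0], [.ofNat 0, .ofNat 0, .ofNat 0, .ofNat 0, .ofNat 0, .ofNat 1], [.negSucc 0, .negSucc 0, .negSucc 1, .negSucc 1, .negSucc 0, .negSucc 0], [.ofNat 1, .ofNat 1, .ofNat 2, .ofNat 3, .ofNat 2, .ofNat 1], [.ofNat 0, .ofNat 1, .ofNat 0, .ofNat 0, .ofNat 0, .ofNat 0]],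
  [[.ofNat 0, .ofNat 0, .ofNat 0, .ofNat 0, .negSucc 0, .negSucc 0], [.negSucc 0, .ofNat 0, .negSucc 0, .ofNat 0, .ofNat 0, .ofNat 0], [.ofNat 0, .ofNat 0, .ofNat 0, .ofNat 0, .ofNat 0, .ofNat 1], [.ofNat 1, .ofNat 0, .ofNat 1, .ofNat 1, .ofNat 1, .ofNat 0], [.ofNat 0, .ofNat 1, .ofNat 0, .ofNat 0, .ofNat 0, .ofNat 0], [.negSucc 0, .negSucc 1, .negSucc 1, .negSucc 2, .negSucc 1, .negSucc 0]],
  [[.negSucc 0, .ofNat 0, .negSucc 0, .ofNat 0, .ofNat 0, .ofNat 0], [.ofNat 1, .ofNat 1, .ofNat 2, .ofNat 3, .ofNat 2, .ofNat 1], [.ofNat 1, .ofNat 0, .ofNat 0, .ofNat 0, .ofNat 0, .ofNat 0], [.negSucc 0, .negSucc 0, .negSucc 0, .negSucc 1, .negSucc 1, .negSucc 0], [.ofNat 0, .ofNat 0, .ofNat 0, .ofNat 0, .ofNat 1, .ofNat 0], [.ofNat 0, .ofNat 0, .ofNat 0, .ofNat 0, .ofNat 0, .ofNat 1]],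
  [[.negSucc 0, .ofNat 0, .negSucc 0, .ofNat 0, .ofNat 0, .ofNat 0], [.ofNat 0, .ofNat 1, .ofNat 0, .ofNat 0, .ofNat 0, .ofNat 0], [.ofNat 1, .ofNat 0, .ofNat 0, .ofNat 0, .ofNat 0, .ofNat 0], [.ofNat 0, .ofNat 0, .ofNat 1, .ofNat 1, .ofNat 1, .ofNat 1], [.ofNat 0, .ofNat 0, .ofNat 0, .ofNat 0, .negSucc 0, .negSucc 0], [.ofNat 0, .ofNat 0, .ofNat 0, .ofNat 0, .ofNat 1, .ofNat 0]],
  [[.negSucc 0, .negSucc 1, .negSucc 1, .negSucc 2, .negSucc 1, .negSucc 0], [.ofNat 0, .ofNat 0, .ofNat 1, .ofNat 0, .ofNat 0, .ofNat 0], [.ofNat 0, .ofNat 1, .ofNat 0, .ofNat 0, .ofNat 0, .ofNat 0], [.ofNat 0, .ofNat 0, .ofNat 0, .ofNat 1, .ofNat 0, .ofNat 0], [.ofNat 0, .ofNat 0, .ofNat 0, .ofNat 0, .ofNat 1, .ofNat 0], [.ofNat 0, .ofNat 0, .ofNat 0, .ofNat 0, .ofNat 0, .ofNat 1]],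
  [[.negSucc 0, .negSucc 1, .negSucc 1, .negSucc 2, .negSucc 1, .negSucc 0], [.ofNat 0, .ofNat 0, .ofNat 0, .ofNat 0, .ofNat 1, .ofNat 0], [.ofNat 0, .ofNat 1, .ofNat 0, .ofNat 0, .ofNat 0, .ofNat 0], [.ofNat 0, .ofNat 0, .ofNat 0, .ofNat 1, .ofNat 0, .ofNat 0], [.ofNat 0, .ofNat 0, .ofNat 1, .ofNat 0, .ofNat 0, .ofNat 0], [.ofNat 1, .ofNat 0, .ofNat 0, .ofNat 0, .ofNat 0, .ofNat 0]],
  [[.negSucc 0, .negSucc 1, .negSucc 1, .negSucc 2, .negSucc 1, .negSucc 0], [.ofNat 0, .ofNat 0, .ofNat 0, .ofNat 0, .ofNat 0, .ofNat 1], [.ofNat 0, .ofNat 1, .ofNat 0, .ofNat 0, .ofNat 0, .ofNat 0], [.ofNat 1, .ofNat 0, .ofNat 1, .ofNat 1, .ofNat 1, .ofNat 0], [.negSucc 0, .ofNat 0, .negSucc 0, .ofNat 0, .ofNat 0, .ofNat 0], [.ofNat 0, .ofNat 0, .ofNat 1, .ofNat 0, .ofNat 0, .ofNat 0]],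
  [[.negSucc 0, .negSucc 1, .negSucc 1, .negSucc 2, .negSucc 1, .negSucc 0], [.ofNat 0, .ofNat 0, .ofNat 0, .ofNat 0, .negSucc 0, .negSucc 0], [.ofNat 0, .ofNat 1, .ofNat 0, .ofNat 0, .ofNat 0, .ofNat 0], [.ofNat 0, .ofNat 0, .ofNat 1, .ofNat 1, .ofNat 1, .ofNat 1], [.ofNat 1, .ofNat 0, .ofNat 0, .ofNat 0, .ofNat 0, .ofNat 0], [.negSucc 0, .ofNat 0, .negSucc 0, .ofNat 0, .ofNat 0, .ofNat 0]]]

/-- the elements `c` -/
def CL0 : List (LM × List (Fin 6)) := [
  ([[.negSucc 0, .ofNat 0, .negSucc 0, .ofNat 0, .ofNat 0, .ofNat 0], [.ofNat 0, .ofNat 1, .ofNat 0, .ofNat 0, .ofNat 0, .ofNat 0], [.ofNat 1, .ofNat 0, .ofNat 0, .ofNat 0, .ofNat 0, .ofNat 0], [.ofNat 0, .ofNat 0, .ofNat 1, .ofNat 1, .ofNat 0, .ofNat 0], [.ofNat 0, .ofNat 0, .ofNat 0, .ofNat 0, .ofNat 1, .ofNat 0], [.ofNat 0, .ofNat 0, .ofNat 0, .ofNat 0, .ofNat 0, .ofNat 1]], [0, 2]),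
  ([[.ofNat 1, .ofNat 0, .ofNat 0, .ofNat 0, .ofNat 0, .ofNat 0], [.ofNat 0, .ofNat 1, .ofNat 0, .ofNat 0, .ofNat 0, .ofNat 0], [.ofNat 0, .ofNat 0, .ofNat 1, .ofNat 0, .ofNat 0, .ofNat 0], [.ofNat 0, .ofNat 0, .ofNat 0, .ofNat 1, .ofNat 1, .ofNat 1], [.ofNat 0, .ofNat 0, .ofNat 0, .ofNat 0, .negSucc 0, .negSucc 0], [.ofNat 0, .ofNat 0, .ofNat 0, .ofNat 0, .ofNat 1, .ofNat 0]], [4, 5]),
  ([[.ofNat 1, .ofNat 1, .ofNat 1, .ofNat 2, .ofNat 1, .ofNat 1], [.ofNat 0, .ofNat 0, .negSucc 0, .negSucc 0, .ofNat 0, .ofNat 0], [.ofNat 0, .negSucc 0, .ofNat 0, .negSucc 0, .ofNat 0, .ofNat 0], [.ofNat 0, .ofNat 0, .ofNat 0, .ofNat 0, .negSucc 0, .negSucc 0], [.ofNat 0, .ofNat 1, .ofNat 1, .ofNat 2, .ofNat 2, .ofNat 1], [.ofNat 0, .ofNat 0, .ofNat 0, .negSucc 0, .negSucc 0, .ofNat 0]], [1, 2, 3, 1, 2, 3, 4, 5, 4, 3]),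
  ([[.ofNat 0, .ofNat 0, .negSucc 0, .negSucc 0, .ofNat 0, .ofNat 0], [.ofNat 0, .ofNat 0, .ofNat 0, .negSucc 0, .negSucc 0, .ofNat 0], [.ofNat 1, .ofNat 1, .ofNat 2, .ofNat 2, .ofNat 1, .ofNat 0], [.negSucc 0, .ofNat 0, .negSucc 0, .ofNat 0, .ofNat 0, .ofNat 0], [.ofNat 0, .negSucc 0, .ofNat 0, .negSucc 0, .ofNat 0, .ofNat 0], [.ofNat 1, .ofNat 1, .ofNat 1, .ofNat 2, .ofNat 1, .ofNat 1]], [0, 1, 3, 1, 4, 3, 1, 2, 0, 3]),
  ([[.ofNat 1, .ofNat 1, .ofNat 1, .ofNat 2, .ofNat 1, .ofNat 0], [.ofNat 0, .ofNat 0, .negSucc 0, .negSucc 0, .negSucc 0, .ofNat 0], [.ofNat 0, .negSucc 0, .ofNat 0, .negSucc 0, .negSucc 0, .ofNat 0], [.ofNat 0, .ofNat 1, .ofNat 1, .ofNat 1, .ofNat 1, .ofNat 0], [.ofNat 0, .negSucc 0, .negSucc 0, .negSucc 0, .ofNat 0, .ofNat 0], [.ofNat 0, .ofNat 1, .ofNat 1, .ofNat 2, .ofNat 1, .ofNat 1]], [1, 2, 3, 4, 3, 1, 2, 3])]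

/-- the vectors as lists -/
def uL : List ℤ := [0, 0, 0, 1, 0, 0]

/-- the vectors as lists -/
def xL : List ℤ := [1, 1, 1, 0, 1, 1]

/-- the vectors as lists -/
def mL : List ℤ := [0, 1, 0, 0, 2, 2]

/-- a functional fixed by `W` modulo three -/
def lL : List ℤ := [1, 0, 2, 0, 1, 2]

private noncomputable def fN (x : ℕ) (f : ℕ → Bool) : Bool := Nat.rec (f 0) (fun n _ => f (Nat.succ n)) x

private noncomputable def fZ (z : ℤ) (k : ℤ → Bool) : Bool :=
  Int.rec (fun n => fN n fun n' => k (Int.ofNat n')) (fun n => fN n fun n' => k (Int.negSucc n')) z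

private noncomputable def fL (l : List ℤ) : (List ℤ → Bool) → Bool :=
  List.rec (fun k => k []) (fun a _ ih k => fZ a fun a' => ih fun l' => k (a' :: l')) l

private noncomputable def fM (l : LM) : (LM → Bool) → Bool :=
  List.rec (fun k => k []) (fun a _ ih k => fL a fun a' => ih fun l' => k (a' :: l')) l

private theorem fZ_eq (z : ℤ) (k : ℤ → Bool) : fZ z k = k z := by rcases z with _ | _ | _ <;> (try rename_i n; cases n) <;> rfl

private theorem fL_eq (l : List ℤ) (k : List ℤ → Bool) : fL l k = k l := by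
  induction l generalizing k with
  | nil => rfl
  | cons a l ih => exact (fZ_eq a fun a' => fL l fun l' => k (a' :: l')).trans (ih fun l' => k (a :: l'))

private theorem fM_eq (l : LM) (k : LM → Bool) : fM l k = k l := by
  induction l generalizing k with
  | nil => rfl
  | cons a l ih => exact (fL_eq a fun a' => fM l fun l' => k (a' :: l')).trans (ih fun l' => k (a :: l'))

theorem tz_u : tz 3 6 uL = u0 := by decide

theorem tz_x : tz 3 6 xL = x0 := by decide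

theorem tz_m : tz 3 6 mL = mu := by decide

theorem hp6 : RGDChev.IsType chevE6 6 CoxeterMatrix.E₆ := by simp [RGDChev.typeList]

private noncomputable def _root_.Cfsg.Agent.LsF.f04d956_0 : {f // @Cfsg.Agent.TO.X.Stab.dot = f} := ⟨_, by first | (delta Cfsg.Agent.TO.X.Stab.dot; rewrite [Cfsg.Agent.LsF.iadd_eq, Cfsg.Agent.LsF.imul_eq]; exact rfl) | exact rfl⟩
private noncomputable def _root_.Cfsg.Agent.LsF.f04d956_1 : {f // @Cfsg.Agent.TO.X.Stab.Sys.tbA = f} := ⟨_, by first | (delta Cfsg.Agent.TO.X.Stab.Sys.tbA; rewrite [Cfsg.Agent.LsF.f04d956_0.2, Cfsg.Agent.LsF.toNat_eq, Cfsg.Agent.LsF.emod_eq]; exact rfl) | exact rfl⟩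
private noncomputable def _root_.Cfsg.Agent.LsF.f04d956_2 : {f // @Cfsg.Agent.TO.X.Stab.Sys.tb = f} := ⟨_, by first | (delta Cfsg.Agent.TO.X.Stab.Sys.tb; rewrite [Cfsg.Agent.LsF.f04d956_1.2]; exact rfl) | exact rfl⟩
private noncomputable def _root_.Cfsg.Agent.LsF.f04d956_7 : {f // @Cfsg.Agent.TO.X.Stab.Sys.run = f} := ⟨_, by first | (delta Cfsg.Agent.TO.X.Stab.Sys.run; rewrite [Cfsg.Agent.LsF.f04d956_2.2, Cfsg.Agent.LsF.map_eq, Cfsg.Agent.LsF.zip_eq]; exact rfl) | exact rfl⟩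
private noncomputable def _root_.Cfsg.Agent.LsF.f04d956_8 : {f // @Cfsg.Agent.TO.X.Stab.allN = f} := ⟨_, by first | (delta Cfsg.Agent.TO.X.Stab.allN; rewrite [Cfsg.Agent.LsF.and_eq]; exact rfl) | exact rfl⟩
private noncomputable def _root_.Cfsg.Agent.LsF.f04d956_9 : {f // @Cfsg.Agent.TO.X.Stab.eqV = f} := ⟨_, by first | (delta Cfsg.Agent.TO.X.Stab.eqV; rewrite [Cfsg.Agent.LsF.f04d956_8.2, Cfsg.Agent.LsF.getD_eq, Cfsg.Agent.LsF.instIDecEq_eq, Cfsg.Agent.LsF.decide_eq]; exact rfl) | exact rfl⟩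
private noncomputable def _root_.Cfsg.Agent.LsF.f04d956_10 : {f // @Cfsg.Agent.TO.X.Stab.eqM = f} := ⟨_, by first | (delta Cfsg.Agent.TO.X.Stab.eqM; rewrite [Cfsg.Agent.LsF.f04d956_8.2, Cfsg.Agent.LsF.f04d956_9.2, Cfsg.Agent.LsF.getD_eq]; exact rfl) | exact rfl⟩
private noncomputable def _root_.Cfsg.Agent.LsF.f04d956_11 : {f // @Cfsg.Agent.TO.X.Stab.mkM = f} := ⟨_, by first | (delta Cfsg.Agent.TO.X.Stab.mkM; rewrite [Cfsg.Agent.LsF.map_eq, Cfsg.Agent.LsF.range_eq]; exact rfl) | exact rfl⟩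
private noncomputable def _root_.Cfsg.Agent.LsF.f04d956_12 : {f // @Cfsg.Agent.TO.X.Stab.Sys.rows = f} := ⟨_, by first | (delta Cfsg.Agent.TO.X.Stab.Sys.rows; rewrite [Cfsg.Agent.LsF.f04d956_11.2, Cfsg.Agent.LsF.getD_eq]; exact rfl) | exact rfl⟩
theorem run0 : sE6.run 6 3 [(uL, uL), (xL, xL)] (fun rs => (GL0 ++ RL0).any (eqM 6 (sE6.rows 6 rs))) = true := by
  ((try (rewrite [Cfsg.Agent.LsF.f04d956_7.2, Cfsg.Agent.LsF.f04d956_10.2, Cfsg.Agent.LsF.f04d956_12.2, Cfsg.Agent.LsF.lappend_pat, Cfsg.Agent.LsF.any_eq])); decide +kernel)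

theorem fx_mem {h : Matrix (Fin 6) (Fin 6) ℤ} (H : Fx h) : ∃ m ∈ GL0 ++ RL0, h = tM 6 m := by
  refine mem_of_leaf (stabZ okE6 hp6 H.ra 3 _ (fun e he => ?_) run0)
  simp only [List.mem_cons, List.not_mem_nil, or_false] at he
  rcases he with rfl | rfl
  · exact tz_u ▸ H.u
  · exact tz_x ▸ H.x

/-- the check of `Good` -/
noncomputable def gd (m : LM) : Bool := eqM 6 (addM 6 (addM 6 (mm 6 (mm 6 m m) (mm 6 m m)) (mm 6 m m)) (oneM 6)) []

theorem gd_iff (m : LM) : gd m = true ↔ Good (tM 6 m) := by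
  rw [gd, eqM_iff, tM_addM, tM_addM, tM_mm, tM_mm, tM_oneM, tM_nil, Good, show (4 : ℕ) = 2 + 2 from rfl, pow_add, pow_two]

/-- the check of `W` -/
noncomputable def wk (m : LM) : Bool := cgV 6 3 (vm 6 lL m) lL

theorem dvd_l : ∀ i : Fin 6, (3 : ℤ) ∣ tv 6 lL ⬝ᵥ cartanOf chevE6 6 i := by decide +kernel

theorem wk_of {m : LM} (h : WM chevE6 6 (tM 6 m)) : wk m = true := by
  have h1 : ∀ W, WM chevE6 6 W → ∀ j, (((tv 6 lL ᵥ* W) j : ℤ) : ZMod 3) = (tv 6 lL j : ℤ) := by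
    intro W hW
    refine Pl.WM.ind (P := fun W => ∀ j, (((tv 6 lL ᵥ* W) j : ℤ) : ZMod 3) = (tv 6 lL j : ℤ))
      (fun j => by rw [vecMul_one]) (fun i W _ ih j => ?_) hW
    rw [← vecMul_vecMul, Pl.sM_eq, Pl.vecMul_refl, sub_vecMul, smul_vecMul, Pi.sub_apply, Pi.smul_apply, smul_eq_mul,
      Int.cast_sub, Int.cast_mul, (ZMod.intCast_zmod_eq_zero_iff_dvd _ 3).2 (dvd_l i), zero_mul, sub_zero, ih]
  rw [wk, cgV_iff, tz_eq, tv_vm]
  exact funext (h1 _ h)

private noncomputable def _root_.Cfsg.Agent.LsF.f04d956_13 : {f // @Cfsg.Agent.TO.X.Stab.mkV = f} := ⟨_, by first | (delta Cfsg.Agent.TO.X.Stab.mkV; rewrite [Cfsg.Agent.LsF.map_eq, Cfsg.Agent.LsF.range_eq]; exact rfl) | exact rfl⟩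
private noncomputable def _root_.Cfsg.Agent.LsF.f04d956_14 : {f // @Cfsg.Agent.TO.X.Stab.addV = f} := ⟨_, by first | (delta Cfsg.Agent.TO.X.Stab.addV; rewrite [Cfsg.Agent.LsF.f04d956_13.2, Cfsg.Agent.LsF.getD_eq, Cfsg.Agent.LsF.iadd_eq]; exact rfl) | exact rfl⟩
private noncomputable def _root_.Cfsg.Agent.LsF.f04d956_15 : {f // @Cfsg.Agent.TO.X.Stab.addM = f} := ⟨_, by first | (delta Cfsg.Agent.TO.X.Stab.addM; rewrite [Cfsg.Agent.LsF.f04d956_11.2, Cfsg.Agent.LsF.f04d956_14.2, Cfsg.Agent.LsF.getD_eq]; exact rfl) | exact rfl⟩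
private noncomputable def _root_.Cfsg.Agent.LsF.f04d956_16 : {f // @Cfsg.Agent.TO.X.Stab.ent = f} := ⟨_, by first | (delta Cfsg.Agent.TO.X.Stab.ent; rewrite [Cfsg.Agent.LsF.getD_eq]; exact rfl) | exact rfl⟩
private noncomputable def _root_.Cfsg.Agent.LsF.f04d956_17 : {f // @Cfsg.Agent.TO.X.Stab.vm = f} := ⟨_, by first | (delta Cfsg.Agent.TO.X.Stab.vm; rewrite [Cfsg.Agent.LsF.f04d956_13.2, Cfsg.Agent.LsF.f04d956_0.2, Cfsg.Agent.LsF.f04d956_16.2]; exact rfl) | exact rfl⟩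
private noncomputable def _root_.Cfsg.Agent.LsF.f04d956_18 : {f // @Cfsg.Agent.TO.X.Stab.mm = f} := ⟨_, by first | (delta Cfsg.Agent.TO.X.Stab.mm; rewrite [Cfsg.Agent.LsF.f04d956_11.2, Cfsg.Agent.LsF.f04d956_17.2, Cfsg.Agent.LsF.getD_eq]; exact rfl) | exact rfl⟩
private noncomputable def _root_.Cfsg.Agent.LsF.f04d956_19 : {f // @Cfsg.Agent.TO.X.Stab.oneM = f} := ⟨_, by first | (delta Cfsg.Agent.TO.X.Stab.oneM; rewrite [Cfsg.Agent.LsF.f04d956_11.2, Cfsg.Agent.LsF.f04d956_13.2, Cfsg.Agent.LsF.cond_eq]; exact rfl) | exact rfl⟩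
private noncomputable def _root_.Cfsg.Agent.LsF.f04d956_20 : {f // @Cfsg.Agent.TO.E6.Lat.gd = f} := ⟨_, by first | (delta Cfsg.Agent.TO.E6.Lat.gd; rewrite [Cfsg.Agent.LsF.f04d956_10.2, Cfsg.Agent.LsF.f04d956_15.2, Cfsg.Agent.LsF.f04d956_18.2, Cfsg.Agent.LsF.f04d956_19.2]; exact rfl) | exact rfl⟩
theorem chkG : GL0.all gd = true := by ((try (rewrite [Cfsg.Agent.LsF.f04d956_20.2, Cfsg.Agent.LsF.all_eq])); decide +kernel)

theorem chkR : RL0.all (fun m => !gd m && sE6.RL.any fun b => eqV 6 (vm 6 b m) b) = true := by ((try (rewrite [Cfsg.Agent.LsF.f04d956_20.2, Cfsg.Agent.LsF.f04d956_9.2, Cfsg.Agent.LsF.f04d956_17.2, Cfsg.Agent.LsF.and_eq, Cfsg.Agent.LsF.not_eq, Cfsg.Agent.LsF.all_eq, Cfsg.Agent.LsF.any_eq])); decide +kernel)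

theorem good_mem {h : Matrix (Fin 6) (Fin 6) ℤ} (H : Fx h) (hg : Good h) : ∃ m ∈ GL0, h = tM 6 m := by
  obtain ⟨m, h1, rfl⟩ := fx_mem H
  rcases List.mem_append.1 h1 with h2 | h2
  · exact ⟨m, h2, rfl⟩
  · have h3 := List.all_eq_true.1 chkR m h2
    rw [(gd_iff m).2 hg] at h3
    exact absurd h3 Bool.false_ne_true

theorem nz_eq (v : List ℤ) : nz chevE6 (tz 3 6 v) = sE6.nzL 3 v := (okE6.nzL_eq 3 v).symm

theorem nz_cor (v : List ℤ) : nz chevE6 (cz 3 (G6 *ᵥ tv 6 v)) = sE6.nzL 3 (mvL 6 sE6.G v) := by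
  rw [← nz_eq, tz_eq, tv_mvL, gm_E6]
  rfl

private noncomputable def _root_.Cfsg.Agent.LsF.f04d956_21 : {f // @Cfsg.Agent.TO.X.Stab.dt = f} := ⟨_, by first | (delta Cfsg.Agent.TO.X.Stab.dt; rewrite [Cfsg.Agent.LsF.f04d956_0.2, Cfsg.Agent.LsF.f04d956_13.2, Cfsg.Agent.LsF.getD_eq]; exact rfl) | exact rfl⟩
private noncomputable def _root_.Cfsg.Agent.LsF.f04d956_22 : {f // @Cfsg.Agent.TO.X.Stab.Sys.nzL = f} := ⟨_, by first | (delta Cfsg.Agent.TO.X.Stab.Sys.nzL; rewrite [Cfsg.Agent.LsF.f04d956_0.2, Cfsg.Agent.LsF.imod_pat, Cfsg.Agent.LsF.icast_pat, Cfsg.Agent.LsF.countP_eq, Cfsg.Agent.LsF.instIDecEq_eq, Cfsg.Agent.LsF.decide_eq]; exact rfl) | exact rfl⟩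
private noncomputable def _root_.Cfsg.Agent.LsF.f04d956_23 : {f // @Cfsg.Agent.TO.X.Stab.mvL = f} := ⟨_, by first | (delta Cfsg.Agent.TO.X.Stab.mvL; rewrite [Cfsg.Agent.LsF.f04d956_13.2, Cfsg.Agent.LsF.f04d956_0.2, Cfsg.Agent.LsF.f04d956_16.2]; exact rfl) | exact rfl⟩
theorem chk1 : sE6.RL.all (fun b => (decide (dt 6 b uL % 3 ≠ 0) || decide (dt 6 b xL % 3 ≠ 0)) &&
    Nat.blt 18 (sE6.nzL 3 (mvL 6 sE6.G b))) = true := by ((try (rewrite [Cfsg.Agent.LsF.f04d956_21.2, Cfsg.Agent.LsF.f04d956_22.2, Cfsg.Agent.LsF.f04d956_23.2, Cfsg.Agent.LsF.imod_pat, Cfsg.Agent.LsF.and_eq, Cfsg.Agent.LsF.or_eq, Cfsg.Agent.LsF.all_eq, Cfsg.Agent.LsF.instIDecEq_eq, Cfsg.Agent.LsF.dNot_eq, Cfsg.Agent.LsF.decide_eq])); decide +kernel)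

theorem vl_ne {b v : List ℤ} (h : dt 6 b v % 3 ≠ 0) : vl (tv 6 b) (tz 3 6 v) ≠ 0 := fun e => h (by
  rw [dt_eq, ← Int.dvd_iff_emod_eq_zero]
  exact (ZMod.intCast_zmod_eq_zero_iff_dvd _ 3).1 ((Pl.vl_cz _ _).symm.trans e))

theorem chk2 : GL0.all (fun m => sE6.RL.all fun b => decide (dt 6 (vm 6 b m) (mvL 6 sE6.G b) = -1) ||
    (decide (dt 6 (vm 6 b m) (mvL 6 sE6.G b) = 0) && decide (dt 6 (vm 6 (vm 6 b m) m) (mvL 6 sE6.G b) = -1) &&
      Nat.blt 18 (sE6.nzL 3 (mvL 6 sE6.G (addV 6 (vm 6 b m) (vm 6 (vm 6 b m) m)))))) = true := by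
  have h : GL0.all (fun m => sE6.RL.all fun b => fL (vm 6 b m) fun x => fL (mvL 6 sE6.G b) fun g =>
      decide (dt 6 x g = -1) || fL (vm 6 x m) fun y => (decide (dt 6 x g = 0) && decide (dt 6 y g = -1) &&
        fL (addV 6 x y) fun v => fL (mvL 6 sE6.G v) fun w => Nat.blt 18 (sE6.nzL 3 w))) = true := by ((try (rewrite [Cfsg.Agent.LsF.f04d956_17.2, Cfsg.Agent.LsF.f04d956_23.2, Cfsg.Agent.LsF.f04d956_21.2, Cfsg.Agent.LsF.f04d956_14.2, Cfsg.Agent.LsF.f04d956_22.2, Cfsg.Agent.LsF.ineg_pat, Cfsg.Agent.LsF.and_eq, Cfsg.Agent.LsF.or_eq, Cfsg.Agent.LsF.all_eq, Cfsg.Agent.LsF.instIDecEq_eq, Cfsg.Agent.LsF.decide_eq])); decide +kernel)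
  simpa only [fL_eq] using h

theorem chk3 : GL0.all (fun m => !wk m || (eqM 6 (addM 6 (addM 6 (mm 6 m m) m) (oneM 6)) [] &&
    cgV 6 3 (mvL 6 m mL) mL)) = true := by decide +kernel

private noncomputable def _root_.Cfsg.Agent.LsF.f04d956_24 : {f // @Cfsg.Agent.TO.X.Stab.cgV = f} := ⟨_, by first | (delta Cfsg.Agent.TO.X.Stab.cgV; rewrite [Cfsg.Agent.LsF.f04d956_8.2, Cfsg.Agent.LsF.isub_pat, Cfsg.Agent.LsF.imod_pat, Cfsg.Agent.LsF.icast_pat, Cfsg.Agent.LsF.getD_eq, Cfsg.Agent.LsF.instIDecEq_eq, Cfsg.Agent.LsF.decide_eq]; exact rfl) | exact rfl⟩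
private noncomputable def _root_.Cfsg.Agent.LsF.f04d956_25 : {f // @Cfsg.Agent.TO.E6.Lat.wk = f} := ⟨_, by first | (delta Cfsg.Agent.TO.E6.Lat.wk; rewrite [Cfsg.Agent.LsF.f04d956_24.2, Cfsg.Agent.LsF.f04d956_17.2]; exact rfl) | exact rfl⟩
theorem chk4 : (GL0 ++ RL0).all (fun m => (!wk m || eqM 6 (mm 6 (mm 6 m m) m) (oneM 6)) &&
    eqM 6 (mm 6 (mm 6 (mm 6 m m) m) (mm 6 (mm 6 m m) m)) (oneM 6)) = true := by
  have h : (GL0 ++ RL0).all (fun m => fM (mm 6 m m) fun a => fM (mm 6 a m) fun c => (!wk m || eqM 6 c (oneM 6)) &&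
      eqM 6 (mm 6 c c) (oneM 6)) = true := by ((try (rewrite [Cfsg.Agent.LsF.f04d956_18.2, Cfsg.Agent.LsF.f04d956_25.2, Cfsg.Agent.LsF.f04d956_10.2, Cfsg.Agent.LsF.f04d956_19.2, Cfsg.Agent.LsF.lappend_pat, Cfsg.Agent.LsF.and_eq, Cfsg.Agent.LsF.or_eq, Cfsg.Agent.LsF.not_eq, Cfsg.Agent.LsF.all_eq])); decide +kernel)
  simpa only [fM_eq] using h

private noncomputable def _root_.Cfsg.Agent.LsF.f04d956_26 : {f // @Cfsg.Agent.TO.X.Stab.negM = f} := ⟨_, by first | (delta Cfsg.Agent.TO.X.Stab.negM; rewrite [Cfsg.Agent.LsF.f04d956_11.2, Cfsg.Agent.LsF.f04d956_13.2, Cfsg.Agent.LsF.f04d956_16.2, Cfsg.Agent.LsF.ineg_eq]; exact rfl) | exact rfl⟩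
theorem chk5 : (GL0 ++ RL0).all (fun m => !wk (negM 6 m) || !eqM 6 (mm 6 (negM 6 m) (negM 6 m)) (oneM 6) ||
    GL0.all fun h => !eqM 6 (mm 6 (negM 6 m) h) (mm 6 h (negM 6 m)) || CL0.any fun c =>
      eqM 6 (mm 6 c.1 h) (mm 6 h c.1) &&
        eqM 6 (mm 6 (addM 6 (negM 6 m) (oneM 6)) (addM 6 c.1 (negM 6 (oneM 6)))) []) = true := by
  have h : (GL0 ++ RL0).all (fun m => fM (negM 6 m) fun n => !wk n || !eqM 6 (mm 6 n n) (oneM 6) ||
      GL0.all fun h => !eqM 6 (mm 6 n h) (mm 6 h n) || CL0.any fun c => eqM 6 (mm 6 c.1 h) (mm 6 h c.1) &&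
        eqM 6 (mm 6 (addM 6 n (oneM 6)) (addM 6 c.1 (negM 6 (oneM 6)))) []) = true := by ((try (rewrite [Cfsg.Agent.LsF.f04d956_26.2, Cfsg.Agent.LsF.f04d956_25.2, Cfsg.Agent.LsF.f04d956_10.2, Cfsg.Agent.LsF.f04d956_18.2, Cfsg.Agent.LsF.f04d956_19.2, Cfsg.Agent.LsF.f04d956_15.2, Cfsg.Agent.LsF.lappend_pat, Cfsg.Agent.LsF.and_eq, Cfsg.Agent.LsF.or_eq, Cfsg.Agent.LsF.not_eq, Cfsg.Agent.LsF.all_eq, Cfsg.Agent.LsF.any_eq])); decide +kernel)
  simpa only [fM_eq] using h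

private noncomputable def _root_.Cfsg.Agent.LsF.f04d956_27 : {f // @Cfsg.Agent.TO.X.Stab.wL = f} := ⟨_, by first | (delta Cfsg.Agent.TO.X.Stab.wL; rewrite [Cfsg.Agent.LsF.f04d956_19.2, Cfsg.Agent.LsF.f04d956_18.2]; exact rfl) | exact rfl⟩
private noncomputable def _root_.Cfsg.Agent.LsF.f04d956_28 : {f // @Cfsg.Agent.TO.X.Stab.Sys.sL = f} := ⟨_, by first | (delta Cfsg.Agent.TO.X.Stab.Sys.sL; rewrite [Cfsg.Agent.LsF.f04d956_11.2, Cfsg.Agent.LsF.f04d956_13.2, Cfsg.Agent.LsF.f04d956_16.2, Cfsg.Agent.LsF.imul_pat, Cfsg.Agent.LsF.isub_pat, Cfsg.Agent.LsF.cond_eq]; exact rfl) | exact rfl⟩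
theorem chk6 : CL0.all (fun c => eqM 6 c.1 (wL 6 (sE6.sL 6) c.2) && eqM 6 (mm 6 (mm 6 c.1 c.1) c.1) (oneM 6) &&
    !(cgV 6 3 (mvL 6 c.1 uL) uL && cgV 6 3 (mvL 6 c.1 xL) xL)) = true := by ((try (rewrite [Cfsg.Agent.LsF.f04d956_10.2, Cfsg.Agent.LsF.f04d956_27.2, Cfsg.Agent.LsF.f04d956_28.2, Cfsg.Agent.LsF.f04d956_18.2, Cfsg.Agent.LsF.f04d956_19.2, Cfsg.Agent.LsF.f04d956_24.2, Cfsg.Agent.LsF.f04d956_23.2, Cfsg.Agent.LsF.and_eq, Cfsg.Agent.LsF.not_eq, Cfsg.Agent.LsF.all_eq])); decide +kernel)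

theorem chk7 : ∀ c ∈ CL0, (∃ a b : ZMod 3, tz 3 6 (mvL 6 c.1 uL) = a • u0 + b • x0) ∧
    ∃ a b : ZMod 3, tz 3 6 (mvL 6 c.1 xL) = a • u0 + b • x0 := by decide +kernel

theorem mv_tz (m : LM) (v : List ℤ) : mv (tM 6 m) (tz 3 6 v) = tz 3 6 (mvL 6 m v) := (tz_mvL 3 m v).symm

end Cfsg.Agent.TO.E6.Lat

namespace Cfsg.Agent.TO.E6

open Cfsg Cfsg.Lie Matrix Cfsg.Agent.TO.X Cfsg.Agent.TO.X.Stab Cfsg.Agent.TO.E6.Lat

/-- **the lattice facts** -/
theorem lat : Lt where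
  reg a ha := by
    obtain ⟨b, hb, rfl⟩ := okE6.exists_mem ha
    have h := List.all_eq_true.1 chk1 b hb
    simp only [Bool.and_eq_true, Bool.or_eq_true, decide_eq_true_iff] at h
    rw [← tz_u, ← tz_x]
    exact h.1.imp vl_ne vl_ne
  nz0 := by
    rw [← tz_u, nz_eq]
    decide +kernel
  nzr a ha := by
    obtain ⟨b, hb, rfl⟩ := okE6.exists_mem ha
    have h := List.all_eq_true.1 chk1 b hb
    rw [Bool.and_eq_true, Nat.blt_eq] at h
    rw [nz_cor]
    exact h.2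
  nzm := by
    rw [← tz_m, nz_eq]
    decide +kernel
  dich h H := by
    obtain ⟨m, h1, rfl⟩ := fx_mem H
    rcases List.mem_append.1 h1 with h2 | h2
    · exact Or.inr ((gd_iff m).1 (List.all_eq_true.1 chkG m h2))
    · have h3 := List.all_eq_true.1 chkR m h2
      rw [Bool.and_eq_true, List.any_eq_true] at h3
      obtain ⟨b, hb, h4⟩ := h3.2
      exact Or.inl ⟨_, okE6.rt_of_mem hb, (tv_vm b m).symm.trans (eqV_iff.1 h4)⟩
  good h H hg a ha := by
    obtain ⟨m, h1, rfl⟩ := good_mem H hg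
    obtain ⟨b, hb, rfl⟩ := okE6.exists_mem ha
    have h := List.all_eq_true.1 (List.all_eq_true.1 chk2 m h1) b hb
    simp only [Bool.and_eq_true, Bool.or_eq_true, decide_eq_true_iff, Nat.blt_eq, ← nz_cor, dt_eq, tv_vm, tv_mvL, tv_addV,
      gm_E6] at h
    exact h.imp id fun h => ⟨h.1.1, h.1.2, h.2⟩
  gw h H hg hw := by
    obtain ⟨m, h1, rfl⟩ := good_mem H hg
    have h := List.all_eq_true.1 chk3 m h1
    simp only [wk_of hw, Bool.not_true, Bool.false_or, Bool.and_eq_true, eqM_iff, cgV_iff, tM_addM, tM_mm, tM_oneM,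
      tM_nil, ← mv_tz, tz_m] at h
    exact h
  cube h H hw := by
    obtain ⟨m, h1, rfl⟩ := fx_mem H
    have h := List.all_eq_true.1 chk4 m h1
    simp only [wk_of hw, Bool.not_true, Bool.false_or, Bool.and_eq_true, eqM_iff, tM_mm, tM_oneM] at h
    rw [pow_succ, pow_two]
    exact h.1
  six h H := by
    obtain ⟨m, h1, rfl⟩ := fx_mem H
    have h := List.all_eq_true.1 chk4 m h1
    simp only [Bool.and_eq_true, eqM_iff, tM_mm, tM_oneM] at h
    rw [show (6 : ℕ) = 3 + 3 from rfl, pow_add, pow_succ, pow_two]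
    exact h.2
  fin h A H hg HA hw h1 h2 := by
    obtain ⟨m, h3, rfl⟩ := good_mem H hg
    obtain ⟨a, h4, h5⟩ := fx_mem HA
    obtain rfl : A = tM 6 (negM 6 a) := by rw [tM_negM, ← h5, neg_neg]
    have h6 := List.all_eq_true.1 chk5 a h4
    rw [wk_of hw, eqM_iff.2 (by rw [tM_mm, tM_oneM, h1])] at h6
    have h7 := List.all_eq_true.1 h6 m h3
    rw [eqM_iff.2 (by rw [tM_mm, tM_mm, h2])] at h7
    obtain ⟨c, h8, h9⟩ := List.any_eq_true.1 h7
    have h10 := List.all_eq_true.1 chk6 c h8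
    obtain ⟨⟨a1, b1, e1⟩, a2, b2, e2⟩ := chk7 c h8
    simp only [Bool.and_eq_true, eqM_iff, tM_mm, tM_oneM, tM_addM, tM_nil, tM_negM (oneM 6), tM_wL sL_E6,
      Bool.not_eq_true'] at h9 h10
    refine ⟨tM 6 c.1, ⟨c.2, h10.1.1⟩, by rw [pow_succ, pow_two]; exact h10.1.2, h9.1, by rw [sub_eq_add_neg]; exact h9.2,
      fun v hv => ?_, fun e => ?_⟩
    · obtain ⟨i, j, rfl⟩ := Submodule.mem_span_pair.1 hv
      have hu : u0 ∈ B0 := Submodule.subset_span (Set.mem_insert _ _)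
      have hx : x0 ∈ B0 := Submodule.subset_span (Set.mem_insert_of_mem _ rfl)
      rw [← mv_tz, tz_u] at e1
      rw [← mv_tz, tz_x] at e2
      rw [mv_add, mv_smul, mv_smul, e1, e2]
      exact add_mem (B0.smul_mem _ (add_mem (B0.smul_mem _ hu) (B0.smul_mem _ hx)))
        (B0.smul_mem _ (add_mem (B0.smul_mem _ hu) (B0.smul_mem _ hx)))
    · have h11 := h10.2
      rw [cgV_iff.2 (by rw [← mv_tz, tz_u, e.1]), cgV_iff.2 (by rw [← mv_tz, tz_x, e.2])] at h11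
      exact absurd h11 (by decide)

end Cfsg.Agent.TO.E6

private theorem dce_61c39216ce4f : _root_.True := by
  try have : _root_.True := by simp only [_root_.Cfsg.Agent.TO.E6.Lat.wk.eq_1]
  try have : _root_.True := by simp only [_root_.Cfsg.Agent.TO.E6.Lat.gd.eq_1]
  try have : _root_.True := by simp only [_root_.Cfsg.Agent.TO.E6.Good.eq_1]
  exact _root_.True.intro
end

-- part: TO/Fin/Asm
section
prune_inst 0x140000000000010800000001400000010000800808008400800000000008000080000001000000000000000000000000000000000000000000000001000000000000000000000000000000000000000000000000000000000000000000000000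
set_option linter.all false
open scoped Cfsg.Agent.FastGrp

-- part: TO/SM/Alt
section
/-!
# S4817, section SM : the alternating groups (helper51)
-/

set_option autoImplicit false

namespace Cfsg.Agent.TO.SM

open Cfsg Equiv

theorem row_alt_ne (B : Blk) {p : ℕ} [Fact p.Prime] {n : ℕ} (hn : 5 ≤ n) (h6 : n ≠ 6) :
    Row p ↥(alternatingGroup (Fin n)) := by
  have hb := S2119.result n (by omega) h6
  have hnt : Nontrivial (Fin n) := Fin.nontrivial_iff_two_le.2 (by omega)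
  have h1 : (Inn ↥(alternatingGroup (Fin n))).comap MulAut.conjNormal = alternatingGroup (Fin n) := by
    ext s
    constructor
    · rintro ⟨k, hk⟩
      have h2 : (k : Perm (Fin n)) = s := hb.1 (by rw [← hk]; ext x; rfl)
      exact h2 ▸ k.2
    · intro hs
      exact ⟨⟨s, hs⟩, by ext x; rfl⟩
  have h2 : (Inn ↥(alternatingGroup (Fin n))).index = 2 := by
    rw [← Subgroup.index_comap_of_surjective _ hb.2, h1, alternatingGroup.index_eq_two]
  obtain ⟨x, y, hxy⟩ := exists_pair_ne (Fin n)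
  refine row_inv B h2.le (MulAut.conjNormal (swap x y)) (fun k hk => ?_) (by rw [← map_mul, swap_mul_self, map_one])
  have h3 : swap x y ∈ alternatingGroup (Fin n) := h1 ▸ ⟨k, hk.symm⟩
  rw [Perm.mem_alternatingGroup, Perm.sign_swap hxy] at h3
  exact absurd h3 (by decide)

theorem rowAlt (B : Blk) (hl : RowFor (fun p S _ => IsLieTypeChar p S)) : RowFor (fun _ S _ => IsAlternating S) := by
  rintro p _ hp S _ _ _ hS ⟨n, hn, ⟨e⟩⟩
  by_cases h6 : n = 6
  · subst h6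
    by_cases h3 : p = 3
    · subst h3
      have : Fintype (GaloisField 3 2) := Fintype.ofFinite _
      have h9 : Fintype.card (GaloisField 3 2) = 9 := by
        rw [← Nat.card_eq_fintype_card, GaloisField.card 3 2 (by norm_num)]
        rfl
      exact hl 3 hp S hS (Or.inl ⟨GaloisField 3 2, _, _, inferInstance, 2, le_rfl, fun _ => by omega,
        ⟨e.trans (S0254.result h9).some.symm⟩⟩)
    · refine Row.of_equiv e (row_cyc B fun h => ?_)
      have h1 : Nat.card ↥(alternatingGroup (Fin 6)) = 360 := by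
        have h2 := two_mul_nat_card_alternatingGroup (α := Fin 6)
        rw [Nat.card_perm, Nat.card_fin, show Nat.factorial 6 = 720 from rfl] at h2
        omega
      rw [h1] at h
      have h2 : p < 19 := by
        have := Nat.le_of_dvd (by norm_num) h
        nlinarith
      have h4 : ∀ q < 19, q ^ 2 ∣ 360 → q = 1 ∨ q = 2 ∨ q = 3 ∨ q = 6 := by decide
      have h5 : p.Prime := Fact.out
      rcases h4 p h2 h with rfl | rfl | rfl | rfl
      exacts [absurd h5 (by norm_num), hp rfl, h3 rfl, absurd h5 (by norm_num)]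
  · exact Row.of_equiv e (row_alt_ne B hn h6)

end Cfsg.Agent.TO.SM
end

-- part: TO/SM/Spor
section
/-!
# S4817, section SM : the sporadic groups (helper51)
-/

set_option autoImplicit false

namespace Cfsg.Agent.TO.SM

open Cfsg Cfsg.Spor
open Cfsg.Agent.H430.CfSpor (ne_of_not_mem fi22_exists hn_exists)
open Cfsg.Agent.H430.CfBase (mul_self_eq_one)

variable {p : ℕ} [Fact p.Prime] {S : Type} [Group S] [Finite S]

theorem one_of (B : Blk) {T : Type} [Group T] (e : Nonempty (S ≃* T)) (h : Nat.card (Out T) = 1) : Row p S :=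
  have : Finite T := Finite.of_equiv S e.some.toEquiv
  Row.of_equiv e.some (row_one B h)

theorem inv_of (B : Blk) {T : Type} [Group T] (e : Nonempty (S ≃* T)) (h : Nat.card (Out T) = 2) (τ : MulAut T)
    (h1 : ∀ k, τ ≠ MulAut.conj k) (h2 : τ * τ = 1) : Row p S :=
  have : Finite T := Finite.of_equiv S e.some.toEquiv
  Row.of_equiv e.some (row_inv B h.le τ h1 h2)

theorem mult_of (B : Blk) {T : Type} [Group T] (e : Nonempty (S ≃* T)) (h : Nat.card (Out T) = 2)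
    (h1 : HasCyclicSchurMultiplier T 3) : Row p S :=
  have : Finite T := Finite.of_equiv S e.some.toEquiv
  Row.of_equiv e.some (row_mult B h.le (by norm_num) h1)

theorem j2_exists : ∃ α : MulAut J2, (∀ k, α ≠ MulAut.conj k) ∧ α * α = 1 := by
  have h1 : ∀ q, H55.OutGen.centerQuot H55.JTwo.al ≠ MulAut.conj q := fun q h => by
    obtain ⟨k, rfl⟩ := QuotientGroup.mk_surjective q
    apply H55.JTwo.al_not_inner_mod k
    intro g
    have h2 := congrArg (fun f : MulAut (J2.Refl.W ⧸ Subgroup.center J2.Refl.W) => f (QuotientGroup.mk g)) h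
    simp only [MulAut.conj_apply] at h2
    rw [H55.OutGen.centerQuot_mk, ← QuotientGroup.mk_mul, ← QuotientGroup.mk_inv, ← QuotientGroup.mk_mul, eq_comm,
      QuotientGroup.eq] at h2
    exact h2
  have h2 : ∀ x, H55.OutGen.centerQuot H55.JTwo.al (H55.OutGen.centerQuot H55.JTwo.al x) = x := by
    intro x
    obtain ⟨k, rfl⟩ := QuotientGroup.mk_surjective x
    rw [H55.OutGen.centerQuot_mk, H55.OutGen.centerQuot_mk]
    congr 1
    apply Subtype.ext
    rw [H55.JTwo.al_coe, H55.JTwo.al_coe, H55.JTwo.TH_inv]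
    calc H55.JTwo.TH * (H55.JTwo.TH * (k : Equiv.Perm _) * H55.JTwo.TH) * H55.JTwo.TH
        = (H55.JTwo.TH * H55.JTwo.TH) * (k : Equiv.Perm _) * (H55.JTwo.TH * H55.JTwo.TH) := by group
      _ = _ := by rw [H55.JTwo.TH_sq, one_mul, mul_one]
  refine ⟨(J2.Group.equivJ2.symm.trans (H55.OutGen.centerQuot H55.JTwo.al)).trans J2.Group.equivJ2, fun k h => ?_,
    mul_self_eq_one _ fun x => ?_⟩
  · apply h1 (J2.Group.equivJ2.symm k)
    ext x
    have h1 := congrArg (fun f : MulAut J2 => J2.Group.equivJ2.symm (f (J2.Group.equivJ2 x))) h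
    simpa only [_root_.MulAut.conj_apply, _root_.MulEquiv.trans_apply, _root_.MulEquiv.symm_apply_apply, _root_.map_mul, _root_.map_inv] using h1
  · simp only [MulEquiv.trans_apply, MulEquiv.symm_apply_apply]
    rw [h2, MulEquiv.apply_symm_apply]

theorem row_j3 (B : Blk) (h : IsoJ3 S) : Row p S := by
  obtain ⟨F, _, _, ω, hF, hω, e⟩ := h
  have H := Cfsg.Agent.J3.Core.good_of_card hF hω
  refine inv_of B e (S2067.result hF ω hω) (H55.OutGen.centerQuot (H55.JThree.phi hF H))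
    (H55.OutGen.centerQuot_not_inner (H55.JThree.hom_center hF H) (H55.JThree.phi_not_inner hF H))
    (mul_self_eq_one _ fun x => ?_)
  obtain ⟨k, rfl⟩ := QuotientGroup.mk_surjective x
  rw [H55.OutGen.centerQuot_mk, H55.OutGen.centerQuot_mk]
  congr 1
  exact Subtype.ext (H55.JThree.phiG_phiG hF H _)

theorem row_hs (B : Blk) (h : IsoHS S) : Row p S := by
  obtain ⟨D⟩ := KFacts.HS.exists_mod (L := HS) ⟨MulEquiv.refl _⟩
  refine inv_of B h S2072.result (D.au Cfsg.Agent.HN.Pres.gz) (ne_of_not_mem fun h => ?_) ?_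
  · exact Cfsg.Agent.HN.HS100.gz_not_mem (D.mem_K_of_inner h)
  · rw [← map_mul, Cfsg.Agent.HN.LocFromFusion.gz_sq, _root_.map_one]

theorem row_m22 (B : Blk) (h : IsoM22 S) : Row p S := by
  have : Finite M22 := Finite.of_equiv S h.some.toEquiv
  refine Row.of_equiv h.some (row_ord B S2062.result.le fun q hq h1 h2 => ?_)
  rw [show Nat.card M22 = 443520 from SporadicA.MathieuRecog.card_M22] at h2
  have h3 : q < 700 := by
    have := Nat.le_of_dvd (by norm_num) h2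
    nlinarith
  have h4 : ∀ q < 700, q % 4 = 1 → q ^ 2 ∣ 443520 → q = 1 := by decide +kernel
  exact hq.one_lt.ne' (h4 q h3 h1 h2)

theorem rowSpor (B : Blk) : RowFor (fun _ S _ => IsSporadicGroup S) := by
  intro p _ _ S _ _ _ _ h
  have hON : IsON ON := S1699.result
  rcases h with h | h | h | h | h | h | h | h | h | h | h | h | h | h | h | h | h | h | h | h | h | h | h | h | h | h
  · exact one_of B h S2060.result
  · exact inv_of B h S2061.result OddHalf.Table.OutMTwelve.al (ne_of_not_mem S2061.al_not_inner)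
      OddHalf.Table.OutMTwelve.al_mul_al
  · exact row_m22 B h
  · exact one_of B h S2063.result
  · exact one_of B h S2064.result
  · exact one_of B h S2065.result
  · exact j2_exists.elim fun α a => inv_of B h S2066.result α a.1 a.2
  · exact row_j3 B h
  · exact one_of B h S2068.result
  · exact one_of B h S2069.result
  · exact one_of B h S2070.result
  · exact one_of B h S2071.result
  · exact mult_of B h S2073.result S2047.result
  · exact row_hs B h
  · exact inv_of B h S2074.result KFacts.SuzRho.rho H997.OutSuz.rho_outer KFacts.SuzRho.rho_sq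
  · exact inv_of B h S2075.result H997.OutHe.rho H997.OutHe.rho_outer H997.OutHe.rho_sq
  · exact one_of B h S2077.result
  · exact inv_of B h S2078.result (UGT.C.BalON.bt hON) (ne_of_not_mem (S2078.bt_not_inner hON)) (UGT.C.BalON.bt_bt hON)
  · exact one_of B h S2076.result
  · exact fi22_exists.elim fun α a => inv_of B h S2079.result α a.1 a.2
  · exact one_of B h S2080.result
  · exact mult_of B h S2081.result S2055.result
  · exact hn_exists.elim fun α a => inv_of B h S2082.result α a.1 a.2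
  · exact one_of B h S2083.result
  · exact one_of B h S2084.result
  · exact one_of B h S2085.result

end Cfsg.Agent.TO.SM
end

-- part: TO/SM/All
section
/-!
# S4817, section SM : `rowAlt rowSpor rowTits row_G23 row_G24 row_F42` (helper51)
-/
end

-- part: TO/DC/SzRee
section
/-!
# S4817: the rows of the Suzuki groups and the small Ree groups (cyclic Sylow subgroups)
-/

set_option autoImplicit false

namespace Cfsg.Agent.TO.DC

open Cfsg

theorem rowSz (B : Blk) : RowFor (fun _ S _ => Lie.IsoSuzuki S) := by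
  intro p _ hp S _ _ _ _ h
  exact B.row_of_pure fun _ Q H => H.nc (OddRank.SzTits.isCyclic_of_isPGroup h hp Q H.pg)

theorem rowRee (B : Blk) : RowFor (fun p S _ => p ≠ 3 ∧ Lie.IsoRee S) := by
  rintro p hpp hp S _ _ _ _ ⟨hp3, h⟩
  have h3 : 3 < p := by
    have := hpp.out.two_le
    omega
  exact B.row_of_pure fun _ Q H => H.nc (H315.RatB0.isCyclic_ree h h3 Q H.pg)

end Cfsg.Agent.TO.DC
end

-- part: TO/FO/Rows
section
/-!
# S4817: the rows psp, oodd, oplus, ominus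
-/

set_option autoImplicit false

namespace Cfsg.Agent.TO.FO

open Cfsg Cfsg.Agent.LieClassical.OrthForms

theorem rowPsp (B : Blk) (h4 : BoxS4) :
    RowFor (fun p S _ => ∃ (F : Type) (_ : Field F) (_ : Fintype F) (m : ℕ), (p : F) ≠ 0 ∧
      2 ≤ m ∧ (m = 2 → 3 ≤ Fintype.card F) ∧ Nonempty (S ≃* PSp m F)) := by
  rintro p _ - S _ _ _ - ⟨F, _, _, m, hF, hm, hm2, ⟨e⟩⟩
  refine Row.of_equiv e ?_
  obtain ⟨r, hr⟩ := CharP.exists F
  have : Fact r.Prime := ⟨CharP.char_is_prime F r⟩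
  by_cases h : m = 2 ∧ r = 2
  · obtain ⟨rfl, rfl⟩ := h
    exact h4 p F (hm2 rfl)
  · exact B.row_of_pure fun A Q => boxFS p F m hF A Q
      (by rw [S2693.result (p := r) hm fun h1 h2 => h ⟨h1, h2⟩]; exact le_top)

theorem row_of_form (B : Blk) {p : ℕ} [Fact p.Prime] {F : Type} [Field F] [Fintype F] {ι : Type} [Fintype ι]
    [DecidableEq ι] (R : QuadraticMap F (ι → F) F) {R' : (ι → F) → F} (e : ⇑R = R') (hF : (p : F) ≠ 0)
    (h5 : 5 ≤ Fintype.card ι) (hR : ∀ v, (∀ w, QuadraticMap.polar R v w = 0) → v = 0) (h : gammaPOmega F R' = ⊤) :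
    Row p (POmega F R') := by
  subst e
  exact B.row_of_pure fun A Q => boxFO p F ι R hF h5 hR A Q (by rw [h]; exact le_top)

theorem rowOodd (B : Blk) :
    RowFor (fun p S _ => ∃ (F : Type) (_ : Field F) (_ : Fintype F) (m : ℕ), (p : F) ≠ 0 ∧
      3 ≤ m ∧ Odd (Fintype.card F) ∧ Nonempty (S ≃* POmega F (quadFormOdd m F))) := by
  rintro p _ - S _ _ _ - ⟨F, _, _, m, hF, hm, hodd, ⟨e⟩⟩
  exact Row.of_equiv e (row_of_form B (oddForm m F) (coe_oddForm m F) hF (by simp only [_root_.Fintype.card_sum, _root_.Fintype.card_unique, _root_.Fintype.card_fin]; omega)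
    (nondeg_oddForm m F (LieClassical.PomegaCard.odd_card_iff.1 hodd)) (S2694.result hodd hm))

theorem rowOminus (B : Blk) :
    RowFor (fun p S _ => ∃ (F : Type) (_ : Field F) (_ : Fintype F) (m : ℕ) (a b : F),
      (p : F) ≠ 0 ∧ 4 ≤ m ∧ (∀ z₁ z₂ : F, z₁ ^ 2 + a * z₁ * z₂ + b * z₂ ^ 2 = 0 → z₁ = 0 ∧ z₂ = 0) ∧
      Nonempty (S ≃* POmega F (quadFormMinus (m - 1) F a b))) := by
  rintro p _ - S _ _ _ - ⟨F, _, _, m, a, b, hF, hm, hab, ⟨e⟩⟩
  exact Row.of_equiv e (row_of_form B (minusForm (m - 1) F a b) (coe_minusForm _ F a b) hF (by simp only [_root_.Fintype.card_sum, _root_.Fintype.card_fin, _root_.Nat.reduceLeDiff]; omega)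
    (nondeg_minusForm _ F a b hab) (S2696.result (by omega) a b hab))

theorem row_D4 (hA : BoxD4A) (hB : BoxD4B) (hC : BoxD4C) {p : ℕ} [Fact p.Prime] {F : Type} [Field F] [Fintype F]
    (hF : (p : F) ≠ 0) : Row p (POmega F (quadFormPlus 4 F)) := by
  intro G _ _ σ M b D H
  obtain ⟨rfl, σ', H', hS⟩ := hA p F hF G σ M b D H
  rcases Nat.even_or_odd (Fintype.card F) with h | h
  · exact hC F h G σ' M b D H' hS
  · exact hB F h G σ' M b D H' hS

theorem rowOplus (B : Blk) (hA : BoxD4A) (hB : BoxD4B) (hC : BoxD4C) :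
    RowFor (fun p S _ => ∃ (F : Type) (_ : Field F) (_ : Fintype F) (m : ℕ), (p : F) ≠ 0 ∧
      4 ≤ m ∧ Nonempty (S ≃* POmega F (quadFormPlus m F))) := by
  rintro p _ - S _ _ _ - ⟨F, _, _, m, hF, hm, ⟨e⟩⟩
  refine Row.of_equiv e ?_
  rcases hm.eq_or_lt with rfl | h
  · exact row_D4 hA hB hC hF
  · exact row_of_form B (plusForm m F) (coe_plusForm m F) hF (by simp only [_root_.Fintype.card_sum, _root_.Fintype.card_fin]; omega) (nondeg_plusForm m F) (S2695.result h)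

end Cfsg.Agent.TO.FO
end

-- part: TO/S4/Tor
section
/-!
# S4817: defect groups with an abelian centralizer of odd order (helper63)

* `Tor D`, `Tor.false` : the block is principal;
* `exists_dg` : simultaneous diagonalisation; `Fr φ B π` : a frame of weights, `Fr.diag`, `Fr.comm`, `Fr.inv`, `Fr.perm`.
-/

set_option autoImplicit false
set_option linter.unusedSectionVars false

namespace Cfsg.Agent.TO.S4

open Cfsg Matrix Subgroup

section Grp

variable {G : Type} [Group G]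

/-- the centralizer of `D` looks like a torus of odd order -/
structure Tor (D : Subgroup G) : Prop where
  comm : ∀ a ∈ Ce D, ∀ b ∈ Ce D, a * b = b * a
  two : ∀ t ∈ normalizer (D : Set G), ∃ k : ℕ, t ^ 2 ^ k ∈ Ce D
  inv : ∀ t : G, (∀ d ∈ D, t * d * t⁻¹ = d⁻¹) → ∀ c ∈ Ce D, t * c * t⁻¹ = c⁻¹
  odd : ∀ c ∈ Ce D, c * c = 1 → c = 1

theorem In_le (D : Subgroup G) (θ : G → ℂ) : In D θ ≤ normalizer (D : Set G) := fun _ ht =>
  mem_normalizer_iff.2 fun x => (ht.1 x).symm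

/-- **the block would be principal** -/
theorem Tor.false [Finite G] (B : Blk) {p : ℕ} [Fact p.Prime] {M : Ideal AlgInt} {b : Set (IrrCharacter G)} {D : Subgroup G}
    (H : Two p M b D) (hG : commutator G = ⊤) (hD : D ≤ Ce D) (T : Tor D) : False := by
  obtain ⟨θ, hθ⟩ := B.can0 G p M b D H.hM H.hb H.hD hD
  obtain ⟨t, ht, h1⟩ := B.neg G p M b D θ H hθ (.inl fun t ht => T.two t (In_le D θ ht))
  have hc : ∀ a b : Ce D, a * b = b * a := fun a b => Subtype.ext (T.comm a a.2 b b.2)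
  have h2 := Characters.CCBasic.irr_mul_of_comm hc hθ.irr
  have h3 : Function.Injective fun c : Ce D => c * c := fun a b e => by
    have e' : a * a = b * b := e
    have h4 : a * b⁻¹ * (a * b⁻¹) = 1 := by
      rw [mul_assoc, ← mul_assoc b⁻¹, hc b⁻¹ a, mul_assoc a, ← mul_assoc a a, e']
      group
    exact mul_inv_eq_one.1 (Subtype.ext (T.odd _ (a * b⁻¹).2 (congrArg Subtype.val h4)))
  refine B.np G p M b D H hG ((B.can1 G p M b D θ hθ).prin fun c hc' => ?_)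
  obtain ⟨a, ha⟩ := Finite.injective_iff_surjective.1 h3 ⟨c, hc'⟩
  have h4 : θ (a⁻¹ : Ce D) = θ a := (congrArg θ (T.inv t h1 a a.2)).symm.trans (ht.2 a)
  have h5 := h2 a a⁻¹
  rw [mul_inv_cancel, h4, ← h2, show a * a = ⟨c, hc'⟩ from ha] at h5
  exact h5.symm.trans (Characters.CCBasic.irr_apply_one_of_comm hc hθ.irr)

/-- a `p`-group of exponent `p` whose noncyclic abelian subgroups satisfy `Tor` is abelian -/
theorem ab_of_tor [Finite G] {p : ℕ} [hp : Fact p.Prime] (h2 : p ≠ 2) {D : Subgroup G} (hD : IsPGroup p D) (hn : ¬ IsCyclic D)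
    (he : ∀ d ∈ D, d ^ p = 1) (h : ∀ B ≤ D, B ≤ Ce B → ¬ IsCyclic B → Tor B) : D ≤ Ce D := by
  have : Nontrivial D := by
    by_contra h1
    have := not_nontrivial_iff_subsingleton.1 h1
    exact hn inferInstance
  have := hD.center_nontrivial
  obtain ⟨z, hz⟩ := exists_ne (1 : center D)
  have hz1 : (z.1 : G) ≠ 1 := fun e => hz (Subtype.ext (Subtype.ext e))
  obtain ⟨x, hx⟩ : ∃ x : D, x ∉ zpowers z.1 := by
    by_contra h1
    push Not at h1
    exact hn ⟨z.1, h1⟩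
  have h3 : closure {(z.1 : G), (x : G)} ≤ D := (closure_le _).2 (by
    rintro _ (rfl | rfl)
    exacts [z.1.2, x.2])
  have h4 : closure {(z.1 : G), (x : G)} ≤ Ce (closure {(z.1 : G), (x : G)}) := by
    rw [Ce, centralizer_closure, closure_le]
    have e := congrArg Subtype.val (mem_center_iff.1 z.2 x)
    rintro _ (rfl | rfl) _ (rfl | rfl)
    exacts [rfl, e, e.symm, rfl]
  have h5 : ¬ IsCyclic (closure {(z.1 : G), (x : G)}) := by
    rintro ⟨g, hg⟩
    obtain ⟨a, ha⟩ := hg ⟨z.1, subset_closure (.inl rfl)⟩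
    obtain ⟨c, hc⟩ := hg ⟨x, subset_closure (.inr rfl)⟩
    have ha' : (g : G) ^ a = z.1 := congrArg Subtype.val ha
    have hc' : (g : G) ^ c = x := congrArg Subtype.val hc
    have h6 : orderOf (g : G) = p := orderOf_eq_prime (he _ (h3 g.2)) fun e => hz1 (by rw [← ha', e, _root_.one_zpow])
    obtain ⟨n, hn⟩ := mem_zpowers_of_prime_card (p := p) (G := zpowers (g : G)) ((Nat.card_zpowers _).trans h6)
      (g := ⟨z.1, a, ha'⟩) (fun e => hz1 (congrArg Subtype.val e)) (g' := ⟨x, c, hc'⟩)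
    have h7 : (z.1 : G) ^ n = x := congrArg Subtype.val hn
    exact hx ⟨n, Subtype.ext h7⟩
  generalize closure {(z.1 : G), (x : G)} = B at h3 h4 h5
  have T := h B h3 h4 h5
  have h6 : D ⊓ Ce B ≤ Ce (D ⊓ Ce B) := fun a ha c hc => T.comm c hc.2 a ha.2
  have T' := h (D ⊓ Ce B) inf_le_left h6 fun _ => h5 (isCyclic_of_le (le_inf h3 h4))
  have := hD.isNilpotent
  have h7 : (D ⊓ Ce B).subgroupOf D = ⊤ := by
    refine normalizerCondition_iff_only_full_group_self_normalizing.1 Group.normalizerCondition_of_isNilpotent _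
      (le_antisymm (fun t ht => ⟨t.2, ?_⟩) le_normalizer)
    rw [← subgroupOf_normalizer_eq inf_le_left] at ht
    obtain ⟨k, hk⟩ := T'.two t ht
    obtain ⟨m, hm⟩ := exists_pow_eq_self_of_coprime (x := (t : G)) (n := 2 ^ k)
      ((((Nat.coprime_primes Nat.prime_two hp.out).2 h2.symm).coprime_dvd_right
        (orderOf_dvd_of_pow_eq_one (he _ t.2))).pow_left k)
    have h8 := pow_mem hk m
    rw [hm] at h8
    exact centralizer_le (le_inf h3 h4) h8
  rwa [inf_eq_left.2 ((subgroupOf_eq_top.1 h7).trans inf_le_right)] at h6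

end Grp

section Lin

variable {K I : Type} [Field K] [Fintype I] [DecidableEq I]

/-- **simultaneous diagonalisation** -/
theorem exists_dg [IsAlgClosed K] {B : Type} (f : B → Matrix I I K) (hc : ∀ a b, f a * f b = f b * f a) {n : ℕ}
    (hn : (n : K) ≠ 0) (h : ∀ b, f b ^ n = 1) : ∃ P : GL I K, ∀ b, (P⁻¹.1 * f b * P.1).IsDiag := by
  have h1 := Module.End.iSup_iInf_maxGenEigenspace_eq_top_of_iSup_maxGenEigenspace_eq_top_of_commute
    (fun b => toLin' (f b)) (fun a b _ => by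
      show toLin' (f a) * toLin' (f b) = toLin' (f b) * toLin' (f a)
      rw [Module.End.mul_eq_comp, Module.End.mul_eq_comp, ← toLin'_mul, ← toLin'_mul, hc])
    fun b => Module.End.iSup_maxGenEigenspace_eq_top _
  have h2 : ∀ b, Module.End.IsSemisimple (toLin' (f b)) := fun b =>
    Module.End.isSemisimple_of_squarefree_aeval_eq_zero (Polynomial.separable_X_pow_sub_C 1 hn one_ne_zero).squarefree (by
      rw [map_sub, map_pow, Polynomial.aeval_X, Polynomial.aeval_C, map_one, ← toLin'_pow, h, toLin'_one]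
      exact sub_self _)
  simp only [(h2 _).isFinitelySemisimple.maxGenEigenspace_eq_eigenspace] at h1
  have h3 : Submodule.span K {v : I → K | ∀ b, ∃ c : K, f b *ᵥ v = c • v} = ⊤ := by
    rw [eq_top_iff, ← h1]
    exact iSup_le fun χ v hv => Submodule.subset_span fun b =>
      ⟨χ b, Module.End.mem_eigenspace_iff.1 ((Submodule.mem_iInf _).1 hv b)⟩
  obtain ⟨g, h4, -, h5⟩ := Submodule.exists_fun_fin_finrank_span_eq K {v : I → K | ∀ b, ∃ c : K, f b *ᵥ v = c • v}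
  let e := Fintype.equivFinOfCardEq (α := I) (n := Module.finrank K (Submodule.span K
    {v : I → K | ∀ b, ∃ c : K, f b *ᵥ v = c • v})) (by rw [h3, finrank_top, Module.finrank_fintype_fun_eq_card])
  obtain ⟨P, hP⟩ := (linearIndependent_cols_iff_isUnit (A := Matrix.of fun i j => g (e j) i)).1 (h5.comp e e.injective)
  refine ⟨P, fun b => ?_⟩
  choose c hc using fun j => h4 (e j) b
  have h6 : f b * P.1 = P.1 * diagonal c := by
    ext i j
    rw [mul_diagonal, hP, mul_comm]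
    exact congrFun (hc j) i
  rw [mul_assoc, h6, Units.inv_mul_cancel_left]
  exact isDiag_diagonal c

theorem exists_perm {A : Matrix I I K} (h : A.det ≠ 0) : ∃ π : Equiv.Perm I, ∀ i, A (π i) i ≠ 0 := by
  rw [det_apply] at h
  obtain ⟨π, -, h1⟩ := Finset.exists_ne_zero_of_sum_ne_zero h
  exact ⟨π, fun i e => h1 (by rw [Finset.prod_eq_zero (f := fun i => A (π i) i) (Finset.mem_univ i) e, smul_zero])⟩

theorem dg_mul {A : Matrix I I K} (h : A.IsDiag) (X : Matrix I I K) (i j : I) : (A * X) i j = A i i * X i j := by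
  conv_lhs => rw [← h.diagonal_diag, diagonal_mul]
  rfl

theorem mul_dg {A : Matrix I I K} (h : A.IsDiag) (X : Matrix I I K) (i j : I) : (X * A) i j = X i j * A j j := by
  conv_lhs => rw [← h.diagonal_diag, mul_diagonal]
  rfl

variable {G : Type} [Group G] {φ : G →* Matrix I I K} {B : Subgroup G} {π : Equiv.Perm I}

/-- `B` is diagonal, and the diagonal elements have inverse entries at `i` and `π i` -/
structure Fr (φ : G →* Matrix I I K) (B : Subgroup G) (π : Equiv.Perm I) : Prop where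
  inj : Function.Injective φ
  dg : ∀ b ∈ B, (φ b).IsDiag
  pair : ∀ c, (φ c).IsDiag → ∀ i, φ c (π i) (π i) * φ c i i = 1

/-- a frame for a group which preserves a nondegenerate bilinear form -/
theorem exists_fr [IsAlgClosed K] (ψ : G →* Matrix I I K) (hψ : Function.Injective ψ) {J : Matrix I I K} (hJ : J.det ≠ 0)
    (h : ∀ g, (ψ g)ᵀ * J * ψ g = J) (hB : B ≤ Ce B) {n : ℕ} (hn : (n : K) ≠ 0) (he : ∀ b ∈ B, b ^ n = 1) :
    ∃ (φ : G →* Matrix I I K) (π : Equiv.Perm I), Fr φ B π := by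
  obtain ⟨P, hP⟩ := exists_dg (fun b : B => ψ b) (fun a b => by rw [← map_mul, ← map_mul, hB b.2 a a.2]) hn
    fun b => by rw [← map_pow, he b b.2, map_one]
  obtain ⟨π, h1⟩ := exists_perm (A := P.1ᵀ * J * P.1) (by
    rw [det_mul, det_mul, det_transpose]
    exact mul_ne_zero (mul_ne_zero P.det_ne_zero hJ) P.det_ne_zero)
  refine ⟨⟨⟨fun g => P⁻¹.1 * ψ g * P.1, by rw [map_one, mul_one, Units.inv_mul]⟩, fun a b => by
    simp only [map_mul, mul_assoc, Units.mul_inv_cancel_left]⟩, π, fun a b e => hψ ?_, fun b hb => hP ⟨b, hb⟩,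
    fun c hc i => ?_⟩
  · exact (Units.mul_right_inj _).1 ((Units.mul_left_inj _).1 e)
  · have h2 : (P⁻¹.1 * ψ c * P.1)ᵀ * (P.1ᵀ * J * P.1) * (P⁻¹.1 * ψ c * P.1) = P.1ᵀ * ((ψ c)ᵀ * J * ψ c) * P.1 := by
      have h3 : P⁻¹.1ᵀ * P.1ᵀ = 1 := by rw [← transpose_mul, Units.mul_inv, transpose_one]
      simp only [transpose_mul, mul_assoc, Units.mul_inv_cancel_left]
      rw [← mul_assoc P⁻¹.1ᵀ, h3, one_mul]
    have hc' : (P⁻¹.1 * ψ c * P.1).IsDiag := hc
    have h3 := congrFun (congrFun h2 (π i)) i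
    rw [h, mul_dg hc', dg_mul hc'.transpose, mul_right_comm] at h3
    exact (mul_eq_right₀ (h1 i)).1 h3

namespace Fr

variable (E : Fr φ B π)

/-- the weights -/
noncomputable def W (i : I) : B →* Kˣ :=
  MonoidHom.toHomUnits
    { toFun := fun b => φ b i i
      map_one' := by simp
      map_mul' := fun a b => by rw [coe_mul, map_mul, dg_mul (E.dg a a.2)] }

theorem W_pi (i : I) : E.W (π i) = (E.W i)⁻¹ :=
  MonoidHom.ext fun b => eq_inv_of_mul_eq_one_left (Units.ext (E.pair b (E.dg b b.2) i))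

theorem ext {a b : B} (h : ∀ i, E.W i a = E.W i b) : a = b := by
  refine Subtype.ext (E.inj ?_)
  rw [← (E.dg a a.2).diagonal_diag, ← (E.dg b b.2).diagonal_diag]
  exact congrArg diagonal (funext fun i => congrArg Units.val (h i))

theorem rel {t : G} {a b : B} (h : t * a = b * t) {i j : I} (h1 : φ t i j ≠ 0) : E.W j a = E.W i b := by
  have h2 := congrFun (congrFun (congrArg φ h) i) j
  rw [map_mul, map_mul, mul_dg (E.dg a a.2), dg_mul (E.dg b b.2), mul_comm] at h2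
  exact Units.ext (mul_right_cancel₀ h1 h2)

variable (h : Function.Injective E.W)
include h

theorem diag {c : G} (hc : c ∈ Ce B) : (φ c).IsDiag := fun _ _ e => by_contra fun h1 =>
  e (h (MonoidHom.ext fun b => (E.rel (hc b b.2).symm h1).symm))

theorem comm (a : G) (ha : a ∈ Ce B) (b : G) (hb : b ∈ Ce B) : a * b = b * a := by
  refine E.inj (Matrix.ext fun i j => ?_)
  rw [map_mul, map_mul, dg_mul (E.diag h ha), mul_dg (E.diag h ha)]
  by_cases e : i = j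
  · rw [e, mul_comm]
  · rw [E.diag h hb e, mul_zero, zero_mul]

theorem inv (t : G) (ht : ∀ d ∈ B, t * d * t⁻¹ = d⁻¹) (c : G) (hc : c ∈ Ce B) : t * c * t⁻¹ = c⁻¹ := by
  rw [mul_inv_eq_iff_eq_mul, eq_inv_mul_iff_mul_eq]
  refine E.inj (Matrix.ext fun i j => ?_)
  rw [map_mul, map_mul, dg_mul (E.diag h hc), mul_dg (E.diag h hc)]
  by_cases h1 : φ t i j = 0
  · rw [h1, zero_mul, mul_zero]
  · obtain rfl : j = π i := h (MonoidHom.ext fun b => by
      rw [E.rel (b := b⁻¹) (mul_inv_eq_iff_eq_mul.1 (ht b b.2)) h1, E.W_pi, map_inv, MonoidHom.inv_apply])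
    rw [mul_left_comm, mul_comm (φ c i i), E.pair c (E.diag h hc), mul_one]

theorem odd [CharP K 2] (c : G) (hc : c ∈ Ce B) (h1 : c * c = 1) : c = 1 := by
  refine E.inj ?_
  rw [← (E.diag h hc).diagonal_diag, map_one, ← diagonal_one]
  refine congrArg diagonal (funext fun i => ?_)
  have h2 := congrFun (congrFun (congrArg φ h1) i) i
  rw [map_mul, dg_mul (E.diag h hc), map_one, one_apply_eq] at h2
  exact (mul_self_eq_one_iff.1 h2).elim id fun e => e.trans (CharTwo.neg_eq 1)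

/-- the normaliser permutes the weights -/
theorem perm {t : G} (ht : t ∈ normalizer (B : Set G)) : ∃ σ : Equiv.Perm I, σ * π = π * σ ∧
    (∀ j b, E.W (σ j) (B.normalizerMonoidHom ⟨t, ht⟩ b) = E.W j b) ∧ ∀ n : ℕ, σ ^ n = 1 → t ^ n ∈ Ce B := by
  obtain ⟨σ, h1⟩ := exists_perm (A := φ t) ((isUnit_iff_isUnit_det _).1 ((Group.isUnit t).map φ)).ne_zero
  have h2 : ∀ j b, E.W (σ j) (B.normalizerMonoidHom ⟨t, ht⟩ b) = E.W j b := fun j b =>
    (E.rel (inv_mul_cancel_right _ _).symm (h1 j)).symm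
  refine ⟨σ, Equiv.ext fun j => h (MonoidHom.ext fun b => ?_), h2, fun n hn b hb => ?_⟩
  · obtain ⟨b, rfl⟩ := (B.normalizerMonoidHom ⟨t, ht⟩).surjective b
    rw [Equiv.Perm.mul_apply, Equiv.Perm.mul_apply, h2, E.W_pi, E.W_pi, MonoidHom.inv_apply, MonoidHom.inv_apply, h2]
  · have h3 : ∀ (m : ℕ) j b, E.W ((σ ^ m) j) ((B.normalizerMonoidHom ⟨t, ht⟩ ^ m) b) = E.W j b := fun m => by
      induction m with
      | zero => exact fun _ _ => rfl
      | succ m ih => exact fun j b => by rw [pow_succ', pow_succ', Equiv.Perm.mul_apply, MulAut.mul_apply, h2, ih]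
    have h4 := E.ext fun j => (hn ▸ h3 n j ⟨b, hb⟩ :)
    rw [← map_pow] at h4
    exact (mul_inv_eq_iff_eq_mul.1 (congrArg Subtype.val h4)).symm

end Fr

end Lin

end Cfsg.Agent.TO.S4
end

-- part: TO/S4/Main
section
/-!
# S4817: `Sp₄(q)`, `q` even (helper63)
-/

set_option autoImplicit false
set_option linter.unusedSectionVars false

namespace Cfsg.Agent.TO.S4

open Cfsg Matrix Subgroup

theorem inj_four {A I : Type} [Group A] [Fintype I] (hI : Fintype.card I = 4) (hA : ∀ a : A, a = a⁻¹ → a = 1) {W : I → A}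
    (hW : ∀ i, ∃ j, W j = (W i)⁻¹) {k l : I} (h1 : W k ≠ 1) (h2 : W l ≠ 1) (h3 : W l ≠ W k) (h4 : W l ≠ (W k)⁻¹) :
    Function.Injective W ∧ ∀ i, W i ≠ 1 := by
  classical
  have h5 : ({W k, (W k)⁻¹, W l, (W l)⁻¹} : Finset A).card = 4 := Finset.card_eq_four.2 ⟨_, _, _, _, fun e => h1 (hA _ e),
    h3.symm, fun e => h4 (inv_eq_iff_eq_inv.1 e.symm), h4.symm, fun e => h3 (inv_injective e).symm, fun e => h2 (hA _ e), rfl⟩
  have h6 : ({W k, (W k)⁻¹, W l, (W l)⁻¹} : Finset A) ⊆ Finset.univ.image W := fun a ha => by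
    simp only [Finset.mem_insert, Finset.mem_singleton] at ha
    simp only [Finset.mem_image, Finset.mem_univ, true_and]
    rcases ha with rfl | rfl | rfl | rfl
    exacts [⟨k, rfl⟩, hW k, ⟨l, rfl⟩, hW l]
  have h7 := Finset.eq_of_subset_of_card_le h6 (Finset.card_image_le.trans (by rw [h5, Finset.card_univ, hI]))
  refine ⟨fun a b => Finset.card_image_iff.1 (by rw [← h7, h5, Finset.card_univ, hI]) (Finset.mem_univ a)
    (Finset.mem_univ b), fun i => ?_⟩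
  have h8 := h7 ▸ Finset.mem_image_of_mem W (Finset.mem_univ i)
  simp only [Finset.mem_insert, Finset.mem_singleton] at h8
  rcases h8 with e | e | e | e <;> rw [e]
  exacts [h1, inv_ne_one.2 h1, h2, inv_ne_one.2 h2]

theorem pow_four : ∀ π σ : Equiv.Perm (Fin 2 ⊕ Fin 2), (∀ i, π i ≠ i ∧ π (π i) = i ∧ σ (π i) = π (σ i)) →
    ∀ i, σ (σ (σ (σ i))) = i := by decide +kernel

variable {K G : Type} [Field K] [CharP K 2] [Group G] [Finite G]

theorem Fr.tor {φ : G →* Matrix (Fin 2 ⊕ Fin 2) (Fin 2 ⊕ Fin 2) K} {B : Subgroup G} {π : Equiv.Perm (Fin 2 ⊕ Fin 2)}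
    (E : Fr φ B π) (hB : ¬ IsCyclic B) : Tor B := by
  have hA : ∀ a : B →* Kˣ, a = a⁻¹ → a = 1 := fun a e => MonoidHom.ext fun b => Units.ext (by
    have h1 : (a b : K) * a b = 1 := congrArg Units.val (eq_inv_iff_mul_eq_one.1 (DFunLike.congr_fun e b))
    exact (mul_self_eq_one_iff.1 h1).elim id fun e => e.trans (CharTwo.neg_eq 1))
  have h1 : ∀ k, ∃ l, E.W l ≠ 1 ∧ E.W l ≠ E.W k ∧ E.W l ≠ (E.W k)⁻¹ := fun k => by
    by_contra hn
    push Not at hn
    refine hB (isCyclic_of_injective_ringHom ((Units.coeHom K).comp (E.W k)) fun a b e => E.ext fun l => ?_)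
    have e' : E.W k a = E.W k b := Units.ext e
    by_cases h1 : E.W l = 1
    · rw [h1]
      rfl
    by_cases h2 : E.W l = E.W k
    · rw [h2, e']
    · rw [hn l h1 h2, MonoidHom.inv_apply, MonoidHom.inv_apply, e']
  obtain ⟨k, h2, -⟩ := h1 (.inl 0)
  obtain ⟨l, h3, h4, h5⟩ := h1 k
  obtain ⟨h6, h7⟩ := inj_four rfl hA (fun i => ⟨π i, E.W_pi i⟩) h2 h3 h4 h5
  refine ⟨E.comm h6, fun t ht => ?_, E.inv h6, E.odd h6⟩
  obtain ⟨σ, h8, -, h9⟩ := E.perm h6 ht
  exact ⟨2, h9 _ (Equiv.ext (pow_four π σ fun i => ⟨fun e => h7 i (hA _ (by rw [← E.W_pi, e])),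
    h6 (by rw [E.W_pi, E.W_pi]; exact _root_.inv_inv (E.W i)), Equiv.congr_fun h8 i⟩))⟩

/-- the noncyclic abelian subgroups of odd order of `Sp₄(q)` -/
theorem tor_sp {F : Type} [Field F] [CharP F 2] (ψ : G →* symplecticGroup (Fin 2) F) (hψ : Function.Injective ψ)
    {B : Subgroup G} (hB : B ≤ Ce B) (hn : ¬ IsCyclic B) {n : ℕ} (ho : Odd n) (he : ∀ b ∈ B, b ^ n = 1) : Tor B := by
  have : CharP (AlgebraicClosure F) 2 := charP_of_injective_algebraMap (algebraMap F _).injective 2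
  let f := algebraMap F (AlgebraicClosure F)
  let χ : G →* Matrix (Fin 2 ⊕ Fin 2) (Fin 2 ⊕ Fin 2) (AlgebraicClosure F) :=
    { toFun := fun g => (ψ g).1.map f
      map_one' := by rw [map_one, OneMemClass.coe_one, Matrix.map_one _ f.map_zero f.map_one]
      map_mul' := fun a b => by rw [map_mul, Submonoid.coe_mul, Matrix.map_mul] }
  obtain ⟨φ, π, E⟩ := exists_fr χ (fun a b e => hψ (Subtype.ext (Matrix.map_injective f.injective e)))
    (isUnit_det_J (Fin 2) _).ne_zero (fun g => SymplecticGroup.mem_iff'.1 (SymplecticGroup.map_mem (ψ g).2 f)) hB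
    (fun e => ho.not_two_dvd_nat ((CharP.cast_eq_zero_iff _ 2 n).1 e)) he
  exact E.tor hn

/-- **[S4]** -/
theorem boxS4 (B : Blk) : BoxS4 := by
  intro p hp F _ _ _ h3 G _ _ σ M b D H
  have h0 : Nat.gcd 2 (Fintype.card F - 1) = 1 := by
    rw [← LieClassical.SympCenter.card_center (F := F) (m := 2) one_le_two, H292.SpCen.center_eq_bot, card_bot]
  have h1 := H95.StemCover.card_ker_dvd_cyclic (S2092.result rfl 2 le_rfl (fun _ => h3) fun h => absurd h.1 (by decide))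
    H.perf σ H.surj H.ker.le
  rw [h0, Nat.dvd_one, card_eq_one, MonoidHom.ker_eq_bot_iff] at h1
  have P := B.pure G p M b D _ σ H
  have hD : IsPGroup p D := P.pg.of_equiv (D.equivMapOfInjective σ h1).symm
  have he : ∀ d ∈ D, d ^ p = 1 := fun d hd => h1 (by
    obtain ⟨k, hk⟩ := IsPGroup.iff_orderOf.1 P.pg ⟨σ d, d, hd, rfl⟩
    rw [map_pow, map_one]
    exact P.expo _ (BHZ.Nil.self_le_KK _ ⟨d, hd, rfl⟩) ⟨k, (orderOf_coe _).trans hk⟩)
  have T : ∀ A ≤ D, A ≤ Ce A → ¬ IsCyclic A → Tor A := fun A h4 h5 h6 =>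
    tor_sp ((H292.SpCen.spEquiv 2).symm.toMonoidHom.comp σ) ((H292.SpCen.spEquiv 2).symm.injective.comp h1) h5 h6
      (hp.out.odd_of_ne_two H.odd) fun a ha => he a (h4 ha)
  have h4 := ab_of_tor H.odd hD H.nc he T
  exact (T D le_rfl h4 H.nc).false B H.toTwo H.perf h4

end Cfsg.Agent.TO.S4
end

-- part: TO/U2/Star
section
/-!
# S4817, box U2: the unitary groups through the star operation
-/

set_option autoImplicit false
set_option linter.unusedSectionVars false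

namespace Cfsg.Agent.TO.U2

open Cfsg Matrix Cfsg.Agent.LieClassical

/-- the star operation `x ↦ x ^ q` -/
abbrev starR {F : Type} [Field F] [Fintype F] {q : ℕ} (hF : Fintype.card F = q ^ 2) : StarRing F where
  star x := x ^ q
  star_involutive := HermBasic.pow_q_pow_q hF
  star_mul x y := by rw [mul_pow, mul_comm]
  star_add := HermBasic.add_pow_q hF

section Plain

variable {F : Type} [Field F] {n q : ℕ}

/-- the matrix of an element of `SU` -/
def mt : SU n F q →* Matrix (Fin n) (Fin n) F where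
  toFun g := g.1.1
  map_one' := rfl
  map_mul' _ _ := rfl

theorem mt_inj : Function.Injective (mt : SU n F q → Matrix (Fin n) (Fin n) F) :=
  fun _ _ h => Subtype.ext (Subtype.ext h)

theorem det_mt (g : SU n F q) : (mt g).det = 1 := g.1.2

theorem center_of_smul {g : SU n F q} {c : F} (h : mt g = c • (1 : Matrix (Fin n) (Fin n) F)) :
    g ∈ Subgroup.center (SU n F q) :=
  Subgroup.mem_center_iff.2 fun x => mt_inj (by
    rw [map_mul, map_mul, h, Matrix.mul_smul, Matrix.smul_mul, mul_one, one_mul])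

theorem smul_of_center [Fintype F] (hF : Fintype.card F = q ^ 2) (hn : 3 ≤ n) {g : SU n F q}
    (h : g ∈ Subgroup.center (SU n F q)) : ∃ c : F, mt g = c • (1 : Matrix (Fin n) (Fin n) F) := by
  obtain ⟨c, h1, h2, rfl⟩ := (SUBasic.mem_center_SU_iff hF hn g).1 h
  exact ⟨c, by rw [smul_one_eq_diagonal]; rfl⟩

/-- equality in the quotient from proportional matrices -/
theorem mk_eq_of_smul {g h : SU n F q} {c : F} (e : mt g = c • mt h) :
    (QuotientGroup.mk g : PSU n F q) = QuotientGroup.mk h := by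
  refine (QuotientGroup.eq.2 (center_of_smul (c := c) ?_)).symm
  rw [map_mul, e, Matrix.mul_smul, ← map_mul, inv_mul_cancel, map_one]

theorem smul_of_mk_eq [Fintype F] (hF : Fintype.card F = q ^ 2) (hn : 3 ≤ n) {g h : SU n F q}
    (e : (QuotientGroup.mk g : PSU n F q) = QuotientGroup.mk h) : ∃ c : F, mt g = c • mt h := by
  obtain ⟨c, hc⟩ := smul_of_center hF hn (QuotientGroup.eq.1 e.symm)
  refine ⟨c, ?_⟩
  have : g = h * (h⁻¹ * g) := by group
  rw [this, map_mul, hc, Matrix.mul_smul, mul_one]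

/-- the elements of `SU` with matrix in a subalgebra -/
def subOf [Finite F] (q : ℕ) (S : Subalgebra F (Matrix (Fin n) (Fin n) F)) : Subgroup (SU n F q) where
  carrier := {g | mt g ∈ S}
  one_mem' := by
    change mt 1 ∈ S
    rw [map_one]
    exact one_mem S
  mul_mem' := fun {g h} hg hh => by
    change mt (g * h) ∈ S
    rw [map_mul]
    exact mul_mem hg hh
  inv_mem' := fun {g} hg => by
    change mt g⁻¹ ∈ S
    have h1 : g⁻¹ = g ^ (orderOf g - 1) := by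
      rw [inv_eq_iff_mul_eq_one, ← pow_succ', Nat.sub_add_cancel (orderOf_pos g), pow_orderOf_eq_one]
    rw [h1, map_pow]
    exact pow_mem hg _

/-- A subalgebra which contains `a` and `b` contains every element over `⟨ā, b̄⟩`. -/
theorem mt_mem_of_mk_mem [Fintype F] (hF : Fintype.card F = q ^ 2) (hn : 3 ≤ n) {a b : SU n F q}
    (S : Subalgebra F (Matrix (Fin n) (Fin n) F)) (ha : mt a ∈ S) (hb : mt b ∈ S) {x : SU n F q}
    (hx : (QuotientGroup.mk x : PSU n F q) ∈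
      Subgroup.closure {(QuotientGroup.mk a : PSU n F q), QuotientGroup.mk b}) : mt x ∈ S := by
  have h1 : Subgroup.closure {(QuotientGroup.mk a : PSU n F q), QuotientGroup.mk b} ≤
      (subOf q S).map (QuotientGroup.mk' _) := by
    rw [Subgroup.closure_le]
    rintro _ (rfl | rfl)
    · exact ⟨a, ha, rfl⟩
    · exact ⟨b, hb, rfl⟩
  obtain ⟨y, hy, hxy⟩ := h1 hx
  obtain ⟨c, hc⟩ := smul_of_mk_eq hF hn (g := x) (h := y) hxy.symm
  rw [hc]
  exact S.smul_mem hy c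

end Plain

variable {F : Type} [Field F] [StarRing F] {n q : ℕ}

theorem herm_eq (hs : ∀ x : F, star x = x ^ q) (u v : Fin n → F) : hermForm n F q u v = u ⬝ᵥ star v := by
  simp only [hermForm, dotProduct, Pi.star_apply, hs]

theorem dot_adj (A : Matrix (Fin n) (Fin n) F) (u v : Fin n → F) :
    u ⬝ᵥ star (A *ᵥ v) = (Aᴴ *ᵥ u) ⬝ᵥ star v := by
  rw [star_mulVec, dotProduct_comm, ← dotProduct_mulVec, dotProduct_comm]

theorem eq_of_dot {A B : Matrix (Fin n) (Fin n) F} (h : ∀ u v, (A *ᵥ u) ⬝ᵥ star v = (B *ᵥ u) ⬝ᵥ star v) :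
    A = B := by
  ext i j
  simpa only [dotProduct, Pi.single_apply, apply_ite (star : F → F), _root_.Matrix.mulVec_single, _root_.MulOpposite.op_one, _root_.Pi.smul_apply, _root_.Matrix.col_apply, _root_.one_smul, _root_.Pi.star_apply, _root_.star_one, _root_.star_zero, _root_.mul_ite, _root_.mul_one, _root_.MulZeroClass.mul_zero, _root_.Finset.sum_ite_eq', _root_.Finset.mem_univ, ↓ _root_.reduceIte] using h (Pi.single j 1) (Pi.single i 1)

theorem mem_SU (hs : ∀ x : F, star x = x ^ q) (g : SpecialLinearGroup (Fin n) F) :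
    g ∈ SU n F q ↔ g.1ᴴ * g.1 = 1 := by
  rw [HermBasic.mem_SU_iff]
  simp only [herm_eq hs, dot_adj, mulVec_mulVec]
  exact ⟨fun h => eq_of_dot fun u v => by rw [h, one_mulVec], fun h u v => by rw [h, one_mulVec]⟩

theorem star_mul_mt (hs : ∀ x : F, star x = x ^ q) (g : SU n F q) : (mt g)ᴴ * mt g = 1 :=
  (mem_SU hs g.1).1 g.2

/-- an element of `SU` from its matrix -/
def mkSU (hs : ∀ x : F, star x = x ^ q) (A : Matrix (Fin n) (Fin n) F) (hd : A.det = 1) (hu : Aᴴ * A = 1) :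
    SU n F q := ⟨⟨A, hd⟩, (mem_SU hs _).2 hu⟩

theorem mt_mkSU (hs : ∀ x : F, star x = x ^ q) (A : Matrix (Fin n) (Fin n) F) (hd : A.det = 1)
    (hu : Aᴴ * A = 1) : mt (mkSU hs A hd hu) = A := rfl

end Cfsg.Agent.TO.U2
end

-- part: TO/U2/Six
section
/-!
# S4817, box U2: the group `U₆(2)`

The centralizer of the Heisenberg group is `GU₂(2)`, which has a normal Sylow `3`-subgroup.
-/

set_option autoImplicit false
set_option linter.unusedSectionVars false

namespace Cfsg.Agent.TO.U2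

open Cfsg Matrix Cfsg.Agent.LieClassical

variable {F : Type} [Field F] [StarRing F] {n : ℕ}

/-- the standard diagonal matrix -/
def dA (ω : F) : Matrix (Fin 3) (Fin 3) F := !![1, 0, 0; 0, ω, 0; 0, 0, ω ^ 2]

/-- the standard permutation matrix -/
def dB (F : Type) [Field F] : Matrix (Fin 3) (Fin 3) F := !![0, 0, 1; 1, 0, 0; 0, 1, 0]

/-- the intertwiners -/
structure Itw (a b : Matrix (Fin n) (Fin n) F) (ω : F) (P : Matrix (Fin n) (Fin 3) F) : Prop where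
  ha : a * P = P * dA ω
  hb : b * P = P * dB F

attribute [-instance] instNoNatZeroDivisorsOfIsAddTorsionFree instIsCharPOfIsLeftCancelAddOfCharP in
theorem scalar_of_comm {ω : F} (hω : IsPrimitiveRoot ω 3) {X : Matrix (Fin 3) (Fin 3) F}
    (hA : dA ω * X = X * dA ω) (hB : dB F * X = X * dB F) : X = X 0 0 • (1 : Matrix (Fin 3) (Fin 3) F) := by
  have h1 : ω - 1 ≠ 0 := sub_ne_zero.2 (hω.ne_one (by norm_num))
  have hA' := fun i j => congrFun (congrFun hA i) j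
  have hB' := fun i j => congrFun (congrFun hB i) j
  simp only [dA, dB, mul_apply, Fin.sum_univ_three, Fin.forall_fin_succ] at hA' hB'
  simp only [_root_.Fin.isValue, _root_.Matrix.of_apply, _root_.Matrix.cons_val', _root_.Matrix.cons_val_zero, _root_.Matrix.cons_val_fin_one, _root_.one_mul, _root_.Matrix.cons_val_one, _root_.MulZeroClass.zero_mul, _root_.add_zero, _root_.Matrix.cons_val, _root_.mul_one, _root_.MulZeroClass.mul_zero, _root_.Fin.succ_zero_eq_one, _root_.zero_add, _root_.Fin.succ_one_eq_two, _root_.Matrix.cons_val_succ, _root_.IsEmpty.forall_iff, _root_.and_true, _root_.true_and] at hA' hB'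
  have e1 : X 1 0 = 0 := by
    have := hA'.2.1.1
    apply mul_left_cancel₀ h1
    linear_combination this
  have e2 : X 0 1 = 0 := by
    have := hA'.1.1
    apply mul_left_cancel₀ h1
    linear_combination -this
  obtain ⟨⟨b1, b2, b3⟩, ⟨b4, b5, b6⟩, b7, b8, b9⟩ := hB'
  ext i j
  fin_cases i <;> fin_cases j <;> simp <;> (clear * - e1 e2 b6 b3 b4 b5 b1 b2; grobner)

theorem dB_unit : dB F * (dB F)ᴴ = 1 := by
  ext i j
  (revert i j; simp only [dB, mul_apply, Fin.sum_univ_three, _root_.Fin.forall_fin_succ, _root_.Matrix.of_apply, _root_.Matrix.cons_val', _root_.Matrix.cons_val_fin_one, _root_.Matrix.conjTranspose_apply, Fin.isValue, _root_.Matrix.cons_val_zero, _root_.Matrix.cons_val_one, _root_.Matrix.cons_val, _root_.star_zero, _root_.MulZeroClass.mul_zero, _root_.add_zero, _root_.star_one, _root_.mul_one, _root_.zero_add, _root_.Matrix.cons_val_succ, _root_.IsEmpty.forall_iff, _root_.and_true, _root_.Matrix.one_apply_eq,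 Nat.reduceAdd, _root_.Fin.succ_zero_eq_one, _root_.ne_eq, _root_.zero_ne_one, _root_.not_false_eq_true, _root_.Matrix.one_apply_ne, _root_.Fin.succ_one_eq_two, Fin.reduceEq, _root_.and_self, _root_.Fin.succ_ne_zero, _root_.true_and])

theorem dA_unit {ω : F} (h : ω * star ω = 1) : dA ω * (dA ω)ᴴ = 1 := by
  ext i j
  (revert i j; simp only [dA, mul_apply, Fin.sum_univ_three, h, ← mul_pow, _root_.Fin.forall_fin_succ, _root_.Matrix.of_apply, _root_.Matrix.cons_val', _root_.Matrix.cons_val_fin_one, _root_.Matrix.conjTranspose_apply, Fin.isValue, _root_.Matrix.cons_val_zero, _root_.Matrix.cons_val_one, _root_.Matrix.cons_val, _root_.star_one, _root_.mul_one, _root_.star_zero, _root_.MulZeroClass.mul_zero, _root_.add_zero, _root_.Matrix.cons_val_succ, _root_.zero_add, _root_.star_pow, _root_.IsEmpty.forall_iff, _root_.and_true, _root_.Matrix.one_apply_eq, _root_.MulZeroClass.zero_mul, Nat.reduceAdd, _root_.Fin.succ_zero_eq_one,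 _root_.ne_eq, _root_.zero_ne_one, _root_.not_false_eq_true, _root_.Matrix.one_apply_ne, _root_.Fin.succ_one_eq_two, Fin.reduceEq, _root_.and_self, _root_.Fin.succ_ne_zero, _root_.one_pow, _root_.true_and])

theorem adj_itw {g : Matrix (Fin n) (Fin n) F} {G : Matrix (Fin 3) (Fin 3) F} {P : Matrix (Fin n) (Fin 3) F}
    (h : g * P = P * G) (hg : gᴴ * g = 1) (hG : G * Gᴴ = 1) : Pᴴ * g = G * Pᴴ := by
  have h1 : gᴴ * P = P * Gᴴ := by
    calc gᴴ * P = gᴴ * (P * G) * Gᴴ := by rw [Matrix.mul_assoc, Matrix.mul_assoc, hG, Matrix.mul_one]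
      _ = P * Gᴴ := by rw [← h, ← Matrix.mul_assoc, hg, Matrix.one_mul]
  simpa using congrArg conjTranspose h1

/-- a unitary Heisenberg pair -/
structure UH (a b : Matrix (Fin n) (Fin n) F) (ω : F) : Prop extends Heis3 a b ω where
  ua : aᴴ * a = 1
  ub : bᴴ * b = 1
  uω : ω * star ω = 1

variable {a b : Matrix (Fin n) (Fin n) F} {ω : F}

theorem UH.inner (h : UH a b ω) {P P' : Matrix (Fin n) (Fin 3) F} (hP : Itw a b ω P) (hP' : Itw a b ω P') :
    ∃ c : F, P'ᴴ * P = c • (1 : Matrix (Fin 3) (Fin 3) F) := by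
  refine ⟨_, scalar_of_comm h.prim ?_ ?_⟩
  · rw [← Matrix.mul_assoc, ← adj_itw hP'.ha h.ua (dA_unit h.uω), Matrix.mul_assoc, hP.ha, Matrix.mul_assoc]
  · rw [← Matrix.mul_assoc, ← adj_itw hP'.hb h.ub dB_unit, Matrix.mul_assoc, hP.hb, Matrix.mul_assoc]

theorem UH.outer (h : UH a b ω) {P P' : Matrix (Fin n) (Fin 3) F} (hP : Itw a b ω P) (hP' : Itw a b ω P') :
    a * (P * P'ᴴ) = P * P'ᴴ * a ∧ b * (P * P'ᴴ) = P * P'ᴴ * b := by
  constructor
  · rw [Matrix.mul_assoc P, adj_itw hP'.ha h.ua (dA_unit h.uω), ← Matrix.mul_assoc, hP.ha, Matrix.mul_assoc]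
  · rw [Matrix.mul_assoc P, adj_itw hP'.hb h.ub dB_unit, ← Matrix.mul_assoc, hP.hb, Matrix.mul_assoc]

omit [StarRing F] in
theorem Itw.mul {P : Matrix (Fin n) (Fin 3) F} (hP : Itw a b ω P) {k : Matrix (Fin n) (Fin n) F}
    (ha : a * k = k * a) (hb : b * k = k * b) : Itw a b ω (k * P) :=
  ⟨by rw [← Matrix.mul_assoc, ha, Matrix.mul_assoc, hP.ha, Matrix.mul_assoc],
    by rw [← Matrix.mul_assoc, hb, Matrix.mul_assoc, hP.hb, Matrix.mul_assoc]⟩

/-- the matrix with the columns `v, b v, b² v` -/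
def cols (b : Matrix (Fin n) (Fin n) F) (v : Fin n → F) : Matrix (Fin n) (Fin 3) F :=
  Matrix.of fun r i => ![v, b *ᵥ v, b *ᵥ b *ᵥ v] i r

omit [StarRing F] in
theorem mul_cols (k b : Matrix (Fin n) (Fin n) F) (v : Fin n → F) (r : Fin n) (i : Fin 3) :
    (k * cols b v) r i = (k *ᵥ ![v, b *ᵥ v, b *ᵥ b *ᵥ v] i) r := rfl

omit [StarRing F] in
theorem itw_cols (h : Heis3 a b ω) {v : Fin n → F} (hv : a *ᵥ v = v) : Itw a b ω (cols b v) := by
  have h1 : ∀ w, a *ᵥ b *ᵥ w = ω • b *ᵥ a *ᵥ w := fun w => by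
    rw [mulVec_mulVec, mulVec_mulVec, h.comm, smul_mulVec]
  have h2 : b *ᵥ b *ᵥ b *ᵥ v = v := by
    rw [mulVec_mulVec, mulVec_mulVec, ← pow_two, ← pow_succ, h.b3, one_mulVec]
  constructor
  · ext r i
    rw [mul_cols]
    (revert i; simp only [cols, dA, mul_apply, Fin.sum_univ_three, h1, hv, mulVec_smul, _root_.Fin.forall_fin_succ, _root_.Nat.succ_eq_add_one, Nat.reduceAdd, _root_.Matrix.cons_val', _root_.Matrix.cons_val_fin_one, _root_.Matrix.of_apply, Fin.isValue, _root_.Matrix.cons_val_zero, _root_.Matrix.cons_val_one, _root_.Matrix.cons_val, _root_.mul_one, _root_.MulZeroClass.mul_zero, _root_.add_zero, _root_.Matrix.cons_val_succ, _root_.Pi.smul_apply, _root_.smul_eq_mul, _root_.zero_add, _root_.forall_const, _root_.true_and]) <;> (repeat' with_reducible apply And.intro) <;> ring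
  · ext r i
    rw [mul_cols]
    (revert i; simp only [cols, dB, mul_apply, Fin.sum_univ_three, h2, _root_.Fin.forall_fin_succ, _root_.Nat.succ_eq_add_one, Nat.reduceAdd, _root_.Matrix.cons_val', _root_.Matrix.cons_val_fin_one, _root_.Matrix.of_apply, Fin.isValue, _root_.Matrix.cons_val_zero, _root_.Matrix.cons_val_one, _root_.Matrix.cons_val, _root_.MulZeroClass.mul_zero, _root_.mul_one, _root_.zero_add, _root_.add_zero, _root_.Matrix.cons_val_succ, _root_.implies_true, _root_.and_self])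

omit [StarRing F] in
theorem mul_cols_eq {f : Matrix (Fin n) (Fin n) F} (hb : b * f = f * b) {v : Fin n → F} (hv : f *ᵥ v = v) :
    f * cols b v = cols b v := by
  have h1 : ∀ w, f *ᵥ b *ᵥ w = b *ᵥ f *ᵥ w := fun w => by rw [mulVec_mulVec, mulVec_mulVec, hb]
  ext r i
  rw [mul_cols]
  (revert i; simp only [cols, h1, hv, _root_.Fin.forall_fin_succ, _root_.Nat.succ_eq_add_one, Nat.reduceAdd, _root_.Matrix.cons_val', _root_.Matrix.cons_val_fin_one, _root_.Matrix.of_apply, Fin.isValue, _root_.Matrix.cons_val_zero, _root_.Matrix.cons_val_succ, _root_.implies_true, _root_.and_self])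

/-- the field with four elements -/
structure F4 (F : Type) [Field F] [StarRing F] : Prop where
  two : (2 : F) = 0
  cube : ∀ x : F, x ≠ 0 → x ^ 3 = 1
  st : ∀ x : F, star x = x ^ 2

theorem F4.norm (h : F4 F) {x : F} (hx : x ≠ 0) : star x * x = 1 := by
  rw [h.st, ← pow_succ, h.cube x hx]

theorem F4.fix (h : F4 F) {x : F} (hx : x ≠ 0) (hs : star x = x) : x = 1 := by
  rw [h.st] at hs
  apply mul_left_cancel₀ hx
  rw [mul_one, ← pow_two, hs]

/-- a nonzero self-adjoint idempotent has a nonisotropic vector -/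
theorem exists_noniso (h4 : F4 F) (hω : IsPrimitiveRoot ω 3) {g : Matrix (Fin n) (Fin n) F} (hg : g * g = g)
    (hs : gᴴ = g) (h0 : g ≠ 0) : ∃ w, g *ᵥ w = w ∧ w ⬝ᵥ star w = 1 := by
  by_contra hc
  push Not at hc
  have h1 : ∀ u, (g *ᵥ u) ⬝ᵥ star u = 0 := fun u => by
    by_contra hne
    have e : (g *ᵥ u) ⬝ᵥ star (g *ᵥ u) = (g *ᵥ u) ⬝ᵥ star u := by rw [dot_adj, hs, mulVec_mulVec, hg]
    refine hc (g *ᵥ u) (by rw [mulVec_mulVec, hg]) (h4.fix (e ▸ hne) ?_)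
    simp only [dotProduct, mul_comm, _root_.dotProduct, _root_.Pi.star_apply, _root_.star_sum, _root_.star_mul', _root_.star_star, _root_.mul_comm]
  refine h0 (eq_of_dot fun u v => ?_)
  have h2 := h1 (u + v)
  have h3 := h1 (ω • u + v)
  simp only [mulVec_add, star_add, add_dotProduct, dotProduct_add, h1, mulVec_smul, star_smul, smul_dotProduct,
    dotProduct_smul, smul_eq_mul, h4.st ω] at h2 h3
  have h5 : ω ^ 2 + ω + 1 = 0 := by
    have := hω.geom_sum_eq_zero (by norm_num)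
    simp only [Finset.sum_range_succ, Finset.sum_range_zero] at this
    linear_combination this
  rw [zero_mulVec, zero_dotProduct]
  linear_combination h3 - ω ^ 2 * h2 + ((g *ᵥ u) ⬝ᵥ star v) * h5 - ω * ((g *ᵥ u) ⬝ᵥ star v) * h4.two

theorem UH.step (h : UH a b ω) (h4 : F4 F) {f : Matrix (Fin n) (Fin n) F} (hf : f * f = f) (hs : fᴴ = f)
    (h0 : f ≠ 0) (ha : a * f = f * a) (hb : b * f = f * b) :
    ∃ P, Itw a b ω P ∧ Pᴴ * P = 1 ∧ f * P = P := by
  have a3 : a * (a * a) = 1 := by rw [← h.a3, pow_succ', pow_two]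
  have b3 : b * (b * b) = 1 := by rw [← h.b3, pow_succ', pow_two]
  have a3' : ∀ x, a * (a * (a * x)) = x := fun x => by rw [← mul_assoc a a, ← mul_assoc, mul_assoc a a a, a3, one_mul]
  have b3' : ∀ x, b * (b * (b * x)) = x := fun x => by rw [← mul_assoc b b, ← mul_assoc, mul_assoc b b b, b3, one_mul]
  have w3 : ω ^ 3 = 1 := h.prim.pow_eq_one
  have h5 : ω ^ 2 + ω + 1 = 0 := by
    have := h.prim.geom_sum_eq_zero (by norm_num)
    simp only [Finset.sum_range_succ, Finset.sum_range_zero] at this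
    linear_combination this
  have ab' : ∀ x, a * (b * x) = ω • (b * (a * x)) := fun x => by
    rw [← mul_assoc, h.comm, smul_mul_assoc, mul_assoc]
  have sa : aᴴ = a * a := by
    calc aᴴ = aᴴ * (a * (a * a)) := by rw [a3, mul_one]
      _ = a * a := by rw [← mul_assoc, h.ua, one_mul]
  set e : Matrix (Fin n) (Fin n) F := 1 + a + a * a with he
  have ae : a * e = e := by simp only [he, mul_add, mul_one, a3]; abel
  have ee : e * e = e := by
    have : e * e = (3 : F) • e := by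
      conv_lhs => rw [he, add_mul, add_mul, ← he, one_mul, mul_assoc, ae, ae]
      module
    rw [this, show (3 : F) = 1 by linear_combination h4.two, one_smul]
  have se : eᴴ = e := by
    simp only [he, conjTranspose_add, conjTranspose_one, conjTranspose_mul, sa, mul_assoc, a3']
    abel
  have ef : e * f = f * e := by
    have hc : Commute a f := ha
    exact (((Commute.one_left f).add_left hc).add_left (hc.mul_left hc)).eq
  have hsum : e + b * e * (b * b) + b * b * e * b = 1 := by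
    simp only [he, mul_add, add_mul, mul_one, mul_assoc, ab', h.comm, mul_smul_comm, b3, b3', smul_smul]
    match_scalars
    · linear_combination h4.two
    · linear_combination h5
    · linear_combination h5 + ω * w3
  have hg0 : e * f ≠ 0 := fun hz => h0 (by
    have hb2 : b * b * f = f * (b * b) := by rw [mul_assoc, hb, ← mul_assoc, hb, mul_assoc]
    calc f = (e + b * e * (b * b) + b * b * e * b) * f := by rw [hsum, one_mul]
      _ = e * f + b * (e * f) * (b * b) + b * b * (e * f) * b := by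
        rw [add_mul, add_mul, mul_assoc (b * e), hb2, mul_assoc (b * b * e), hb]
        simp only [mul_assoc]
      _ = 0 := by simp [hz])
  obtain ⟨w, hw, hw1⟩ := exists_noniso h4 h.prim (g := e * f)
    (by rw [mul_assoc, ← mul_assoc f, ← ef, mul_assoc, hf, ← mul_assoc, ee])
    (by rw [conjTranspose_mul, se, hs, ef]) hg0
  have haw : a *ᵥ w = w := by rw [← hw, mulVec_mulVec, ← mul_assoc, ae]
  have hfw : f *ᵥ w = w := by rw [← hw, mulVec_mulVec, ef, ← mul_assoc, hf]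
  have hP := itw_cols h.toHeis3 haw
  refine ⟨_, hP, ?_, mul_cols_eq hb hfw⟩
  obtain ⟨c, hc⟩ := h.inner hP hP
  have h6 : ((cols b w)ᴴ * cols b w) 0 0 = w ⬝ᵥ star w := by
    simp only [cols, mul_apply, dotProduct, mul_comm, _root_.Cfsg.Agent.TO.U2.cols, _root_.Nat.succ_eq_add_one, _root_.Nat.reduceAdd, _root_.Matrix.mulVec_mulVec, _root_.Matrix.cons_val', _root_.Matrix.cons_val_fin_one, _root_.Fin.isValue, _root_.Matrix.conjTranspose_apply, _root_.Matrix.of_apply, _root_.Matrix.cons_val_zero, _root_.mul_comm, _root_.dotProduct, _root_.Pi.star_apply]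
  rw [hc, hw1] at h6
  rw [hc, show c = 1 by simpa using h6, one_smul]

theorem UH.basis {a b : Matrix (Fin 6) (Fin 6) F} (h : UH a b ω) (h4 : F4 F) :
    ∃ P₁ P₂, Itw a b ω P₁ ∧ Itw a b ω P₂ ∧ P₁ᴴ * P₁ = 1 ∧ P₂ᴴ * P₂ = 1 ∧ P₁ᴴ * P₂ = 0 ∧ P₂ᴴ * P₁ = 0 ∧
      P₁ * P₁ᴴ + P₂ * P₂ᴴ = 1 := by
  obtain ⟨P, hP, h1, -⟩ := h.step h4 (f := 1) (one_mul _) conjTranspose_one one_ne_zero (by simp) (by simp)
  have hpp : P * Pᴴ * (P * Pᴴ) = P * Pᴴ := by
    rw [Matrix.mul_assoc, ← Matrix.mul_assoc Pᴴ, h1, Matrix.one_mul]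
  obtain ⟨R, hR, h2, h3⟩ := h.step h4 (f := 1 - P * Pᴴ)
    (by rw [sub_mul, mul_sub, mul_sub, hpp]; simp) (by simp) (fun hz => by
      have h4 := rank_mul_le_left P Pᴴ
      have h5 := rank_le_width P
      rw [← sub_eq_zero.1 hz, rank_one, Fintype.card_fin] at h4
      omega)
    (by rw [mul_sub, sub_mul, (h.outer hP hP).1]; simp) (by rw [mul_sub, sub_mul, (h.outer hP hP).2]; simp)
  have h5 : Pᴴ * R = 0 := by
    rw [← h3, ← Matrix.mul_assoc, Matrix.mul_sub, ← Matrix.mul_assoc, h1]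
    simp
  have h6 : Rᴴ * P = 0 := by simpa using congrArg conjTranspose h5
  refine ⟨P, R, hP, hR, h1, h2, h5, h6, ?_⟩
  rw [← fromCols_mul_fromRows, fromCols_mul_fromRows_eq_one_comm (finSumFinEquiv (m := 3) (n := 3)).symm,
    fromRows_mul_fromCols, h1, h2, h5, h6, fromBlocks_one]

/-- an orthonormal basis of the intertwiners -/
structure Bas (a b : Matrix (Fin n) (Fin n) F) (ω : F) (P R : Matrix (Fin n) (Fin 3) F) : Prop where
  hP : Itw a b ω P
  hR : Itw a b ω R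
  pp : Pᴴ * P = 1
  rr : Rᴴ * R = 1
  pr : Pᴴ * R = 0
  rp : Rᴴ * P = 0
  tot : P * Pᴴ + R * Rᴴ = 1

/-- the diagonal elements -/
def dg (P R : Matrix (Fin n) (Fin 3) F) (s t : F) : Matrix (Fin n) (Fin n) F := s • (P * Pᴴ) + t • (R * Rᴴ)

namespace Bas

variable {P R : Matrix (Fin n) (Fin 3) F}

theorem dg_P (h : Bas a b ω P R) (s t : F) : dg P R s t * P = s • P := by
  simp [dg, Matrix.add_mul, Matrix.mul_assoc, h.pp, h.rp]

theorem dg_R (h : Bas a b ω P R) (s t : F) : dg P R s t * R = t • R := by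
  simp [dg, Matrix.add_mul, Matrix.mul_assoc, h.rr, h.pr]

theorem ext (h : Bas a b ω P R) {k k' : Matrix (Fin n) (Fin n) F} (h1 : k * P = k' * P) (h2 : k * R = k' * R) :
    k = k' := by
  rw [← mul_one k, ← mul_one k', ← h.tot, mul_add, mul_add]
  simp only [← Matrix.mul_assoc, h1, h2]

theorem dg_mul (h : Bas a b ω P R) (s t s' t' : F) : dg P R s t * dg P R s' t' = dg P R (s * s') (t * t') :=
  h.ext (by rw [Matrix.mul_assoc, h.dg_P, h.dg_P, Matrix.mul_smul, h.dg_P, smul_smul, mul_comm])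
    (by rw [Matrix.mul_assoc, h.dg_R, h.dg_R, Matrix.mul_smul, h.dg_R, smul_smul, mul_comm])

theorem dg_one (h : Bas a b ω P R) : dg P R 1 1 = 1 := by rw [dg, one_smul, one_smul, h.tot]

theorem dg_pow (h : Bas a b ω P R) (s t : F) (m : ℕ) : dg P R s t ^ m = dg P R (s ^ m) (t ^ m) := by
  induction m with
  | zero => simp [h.dg_one]
  | succ m ih => rw [pow_succ, ih, h.dg_mul, pow_succ, pow_succ]

theorem dg_star (s t : F) : (dg P R s t)ᴴ = dg P R (star s) (star t) := by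
  simp only [dg, conjTranspose_smul, _root_.Cfsg.Agent.TO.U2.dg, _root_.Matrix.conjTranspose_add, _root_.Matrix.conjTranspose_smul, _root_.Matrix.conjTranspose_mul, _root_.Matrix.conjTranspose_conjTranspose]

theorem det_dg (h : Bas a b ω P R) (s : F) : (dg P R s 1).det = s ^ 3 := by
  have h1 : dg P R s 1 = 1 + ((s - 1) • P) * Pᴴ := by
    rw [← h.tot, dg, Matrix.smul_mul]
    module
  have h2 : 1 + Pᴴ * ((s - 1) • P) = s • (1 : Matrix (Fin 3) (Fin 3) F) := by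
    rw [Matrix.mul_smul, h.pp]
    module
  rw [h1, det_one_add_mul_comm, h2, det_smul, det_one, mul_one, Fintype.card_fin]

theorem expand (h : Bas a b ω P R) (hu : UH a b ω) {T : Matrix (Fin n) (Fin 3) F} (hT : Itw a b ω T) :
    ∃ s t : F, T = s • P + t • R := by
  obtain ⟨s, hs⟩ := hu.inner hT h.hP
  obtain ⟨t, ht⟩ := hu.inner hT h.hR
  refine ⟨s, t, ?_⟩
  calc T = (P * Pᴴ + R * Rᴴ) * T := by rw [h.tot, Matrix.one_mul]
    _ = _ := by simp only [Matrix.add_mul, Matrix.mul_assoc, hs, ht, _root_.Matrix.add_mul, _root_.Matrix.mul_assoc, _root_.Matrix.mul_smul, _root_.Matrix.mul_one]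

theorem gram (h : Bas a b ω P R) (s t s' t' : F) :
    (s • P + t • R)ᴴ * (s' • P + t' • R) = (star s * s' + star t * t') • (1 : Matrix (Fin 3) (Fin 3) F) := by
  simp only [conjTranspose_add, conjTranspose_smul, Matrix.add_mul, Matrix.mul_add, Matrix.smul_mul,
    Matrix.mul_smul, h.pp, h.rr, h.pr, h.rp]
  module

/-- the unitary elements of order three of the centralizer are diagonal -/
theorem diag (h : Bas a b ω P R) (hu : UH a b ω) (h4 : F4 F) {k : Matrix (Fin n) (Fin n) F}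
    (ha : a * k = k * a) (hb : b * k = k * b) (uk : kᴴ * k = 1) (k3 : k ^ 3 = 1) :
    ∃ s t : F, s ≠ 0 ∧ t ≠ 0 ∧ k = dg P R s t := by
  obtain ⟨α, β, h1⟩ := h.expand hu (h.hP.mul ha hb)
  obtain ⟨γ, δ, h2⟩ := h.expand hu (h.hR.mul ha hb)
  have key : ∀ S T : Matrix (Fin n) (Fin 3) F, (k * S)ᴴ * (k * T) = Sᴴ * T := fun S T => by
    rw [conjTranspose_mul, Matrix.mul_assoc, ← Matrix.mul_assoc kᴴ, uk, Matrix.one_mul]
  have e1 := congrFun (congrFun (key P P) 0) 0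
  have e2 := congrFun (congrFun (key R R) 0) 0
  have e3 := congrFun (congrFun (key P R) 0) 0
  rw [h1, h.gram, h.pp] at e1
  rw [h2, h.gram, h.rr] at e2
  rw [h1, h2, h.gram, h.pr] at e3
  simp only [Matrix.smul_apply, one_apply_eq, smul_eq_mul, mul_one, Matrix.zero_apply] at e1 e2 e3
  by_cases hα : α = 0
  · exfalso
    subst hα
    have hβ : star β ≠ 0 := fun hz => by simp [hz] at e1
    have hδ : δ = 0 := by simpa only [hβ, _root_.star_zero, _root_.MulZeroClass.zero_mul, _root_.zero_add, _root_.mul_eq_zero, _root_.false_or] using e3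
    subst hδ
    have h5 : k ^ 3 * P = (β * γ * β) • R := by
      rw [pow_succ, pow_two, Matrix.mul_assoc, Matrix.mul_assoc, h1]
      simp [h1, h2, smul_smul]
    have h6 := congrArg (fun T => (Pᴴ * T) 0 0) h5
    simp [k3, h.pp, h.pr] at h6
  · have hβ : β = 0 := by
      by_contra hβ
      rw [h4.norm hα, h4.norm hβ] at e1
      exact one_ne_zero (by linear_combination e1 : (1 : F) = 0)
    subst hβ
    have hγ : γ = 0 := by simpa only [hα, _root_.star_zero, _root_.MulZeroClass.zero_mul, _root_.add_zero, _root_.mul_eq_zero, _root_.star_eq_zero, _root_.false_or] using e3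
    subst hγ
    refine ⟨α, δ, hα, fun hz => by simp [hz] at e2, h.ext ?_ ?_⟩
    · rw [h1, h.dg_P, zero_smul, add_zero]
    · rw [h2, h.dg_R, zero_smul, zero_add]

end Bas

/-- **`U₆(2)`** -/
theorem not_surv_six {F : Type} [Field F] [Fintype F] (hF : Fintype.card F = 2 ^ 2)
    {A : Subgroup (MulAut (PSU 6 F 2))} {Q : Subgroup (PSU 6 F 2)} (hP : Pure 3 _ A Q) : ¬ SurvU 6 F 2 Q := by
  rintro ⟨a, b, ω, hH, -, -, -, rfl⟩
  let _ := starR hF
  have hs : ∀ x : F, star x = x ^ 2 := fun _ => rfl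
  have h4 : F4 F := ⟨?_, fun x hx => ?_, hs⟩
  rotate_left
  · have := HermBasic.add_pow_q hF 1 1
    linear_combination this
  · simpa only [hF, _root_.Nat.reducePow, _root_.Nat.add_one_sub_one] using FiniteField.pow_card_sub_one_eq_one x hx
  have w0 : ω ≠ 0 := hH.prim.ne_zero (by norm_num)
  have hu : UH (mt a) (mt b) ω := ⟨hH, star_mul_mt hs a, star_mul_mt hs b, by rw [mul_comm, h4.norm w0]⟩
  obtain ⟨P, R, i1, i2, i3, i4, i5, i6, i7⟩ := hu.basis h4
  have hB : Bas (mt a) (mt b) ω P R := ⟨i1, i2, i3, i4, i5, i6, i7⟩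
  let y : SU 6 F 2 := mkSU hs (dg P R ω 1) (by rw [hB.det_dg, hH.prim.pow_eq_one])
    (by rw [Bas.dg_star, hB.dg_mul, h4.norm w0, star_one, one_mul, hB.dg_one])
  have hy : mt y = dg P R ω 1 := rfl
  have y3 : y ^ 3 = 1 := mt_inj (by rw [map_pow, hy, hB.dg_pow, hH.prim.pow_eq_one, one_pow, hB.dg_one, map_one])
  have cent : ∀ N : Matrix (Fin 6) (Fin 6) F, mt a * N = N * mt a → mt b * N = N * mt b → ∀ x : SU 6 F 2,
      (QuotientGroup.mk x : PSU 6 F 2) ∈ Subgroup.closure {(QuotientGroup.mk a : PSU 6 F 2), QuotientGroup.mk b} →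
      mt x * N = N * mt x := fun N ha hb x hx =>
    ((Subalgebra.mem_centralizer_iff F).1 (mt_mem_of_mk_mem hF (by norm_num) (Subalgebra.centralizer F {N})
      ((Subalgebra.mem_centralizer_iff F).2 fun _ hg => hg ▸ ha.symm)
      ((Subalgebra.mem_centralizer_iff F).2 fun _ hg => hg ▸ hb.symm) hx) N rfl).symm
  have cy := cent (mt y)
    (by rw [hy, dg, mul_add, add_mul]; simp only [mul_smul_comm, smul_mul_assoc, (hu.outer i1 i1).1, (hu.outer i2 i2).1])
    (by rw [hy, dg, mul_add, add_mul]; simp only [mul_smul_comm, smul_mul_assoc, (hu.outer i1 i1).2, (hu.outer i2 i2).2])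
  set Q : Subgroup (PSU 6 F 2) := Subgroup.closure {(QuotientGroup.mk a : PSU 6 F 2), QuotientGroup.mk b} with hQ
  let π : SU 6 F 2 →* PSU 6 F 2 := QuotientGroup.mk' _
  have hπ : ∀ x, π x = QuotientGroup.mk x := fun _ => rfl
  have hYN : Subgroup.zpowers (π y) ≤ Subgroup.normalizer (Q : Set (PSU 6 F 2)) := by
    rw [Subgroup.zpowers_le]
    refine Subgroup.centralizer_le_normalizer _ (Subgroup.mem_centralizer_iff.2 fun x hx => ?_)
    obtain ⟨x, rfl⟩ := QuotientGroup.mk'_surjective _ x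
    rw [← map_mul, ← map_mul, show x * y = y * x from mt_inj (by rw [map_mul, map_mul, cy x hx])]
  have hY : IsPGroup 3 (Subgroup.zpowers (π y)) :=
    BHZ.Nil.isPGroup_zpowers_of_pow (n := 1) (by rw [pow_one, ← map_pow, y3, map_one])
  have hE := hP.rad (Q ⊔ Subgroup.zpowers (π y)) (hP.pg.to_sup_of_normal_left' hY hYN) le_sup_left ?_
    (sup_le Subgroup.le_normalizer hYN)
  · have h1 : π y ∈ Q := hE ▸ Subgroup.mem_sup_right (Subgroup.mem_zpowers _)
    have h2 := congrArg (fun T => (Pᴴ * (T * R)) 0 0) (cent _ (hu.outer i1 i2).1 (hu.outer i1 i2).2 y h1)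
    simp only [hy, Matrix.mul_assoc, hB.dg_R, one_smul, i4, Matrix.mul_one, hB.dg_P, Matrix.mul_smul, i3] at h2
    exact hH.prim.ne_one (by norm_num) (by simpa using h2)
  · intro t ht
    refine Subgroup.normalizer_inf_normalizer_le_normalizer_sup _ _ ⟨ht, ?_⟩
    obtain ⟨t, rfl⟩ := QuotientGroup.mk'_surjective _ t
    have h1 : ∀ x : SU 6 F 2, π x ∈ Q → mt x * mt (t * y * t⁻¹) = mt (t * y * t⁻¹) * mt x := fun x hx => by
      have h2 : π (t⁻¹ * x * t) ∈ Q := by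
        have := (Subgroup.mem_normalizer_iff.1 (inv_mem ht) (π x)).1 hx
        simpa only [hπ, _root_.QuotientGroup.mk_mul, _root_.QuotientGroup.mk_inv, _root_.QuotientGroup.mk'_apply, _root_.inv_inv] using this
      have h3 : t⁻¹ * x * t * y = y * (t⁻¹ * x * t) := mt_inj (by rw [map_mul, cy _ h2, map_mul mt y])
      rw [← map_mul, ← map_mul]
      congr 1
      calc x * (t * y * t⁻¹) = t * (t⁻¹ * x * t * y) * t⁻¹ := by group
        _ = _ := by rw [h3]; group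
    obtain ⟨s, u, hs0, hu0, hk⟩ := hB.diag hu h4 (h1 a (Subgroup.subset_closure (by simp [hπ])))
      (h1 b (Subgroup.subset_closure (by simp [hπ]))) (star_mul_mt hs _)
      (by rw [← map_pow, conj_pow, y3, mul_one, mul_inv_cancel, map_one])
    obtain ⟨m, -, hm⟩ := hH.prim.eq_pow_of_pow_eq_one (h4.cube (s / u) (div_ne_zero hs0 hu0))
    have h5 : π (t * y * t⁻¹) = π (y ^ m) := mk_eq_of_smul (c := u) (by
      rw [hk, map_pow, hy, hB.dg_pow, hm, dg, dg, smul_add, smul_smul, smul_smul, mul_div_cancel₀ _ hu0, one_pow,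
        mul_one])
    refine Subgroup.mem_normalizer_fintype ?_
    rintro _ ⟨j, rfl⟩
    refine ⟨m * j, ?_⟩
    change π y ^ ((m : ℤ) * j) = π t * π y ^ j * (π t)⁻¹
    rw [← conj_zpow, ← map_inv, ← map_mul, ← map_mul, h5, map_pow, _root_.zpow_mul, zpow_natCast]

end Cfsg.Agent.TO.U2
end

-- part: TO/U2/Main
section
/-!
# S4817, box U2
-/

set_option autoImplicit false
set_option linter.unusedSectionVars false

namespace Cfsg.Agent.TO.U2

open Cfsg Matrix Cfsg.Agent.LieClassical Cfsg.Agent.TO.L2 Cfsg.Agent.ClassicalGeometry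
open scoped commutatorElement

/-- homomorphisms of a perfect group which agree modulo the centre -/
theorem hom_ext {Γ G : Type*} [Group Γ] [Group G] (hΓ : commutator Γ = ⊤) (f g : Γ →* G)
    (h : ∀ x, f x * (g x)⁻¹ ∈ Subgroup.center G) : f = g := by
  have h1 : commutator Γ ≤ f.eqLocus g := by
    rw [commutator_def, Subgroup.commutator_le]
    intro x _ y _
    change f ⁅x, y⁆ = g ⁅x, y⁆
    have hx := Subgroup.mem_center_iff.1 (h x)
    have hy := Subgroup.mem_center_iff.1 (h y)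
    have e1 : f x = f x * (g x)⁻¹ * g x := by group
    have e2 : f y = f y * (g y)⁻¹ * g y := by group
    rw [map_commutatorElement, map_commutatorElement, e1, e2]
    generalize f x * (g x)⁻¹ = z at hx
    generalize f y * (g y)⁻¹ = t at hy
    rw [commutatorElement_def, commutatorElement_def]
    calc z * g x * (t * g y) * (z * g x)⁻¹ * (t * g y)⁻¹
        = z * (g x * (t * g y) * (g x)⁻¹) * z⁻¹ * (t * g y)⁻¹ := by group
      _ = (g x * t) * g y * (g x)⁻¹ * (t * g y)⁻¹ := by rw [← hx]; group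
      _ = t * (g x * g y * (g x)⁻¹ * (g y)⁻¹) * t⁻¹ := by rw [hy]; group
      _ = _ := by rw [← hy]; group
  exact MonoidHom.ext fun x => h1 (hΓ ▸ Subgroup.mem_top x)

theorem psi_mem {F R : Type*} [Field F] [Ring R] [Algebra F R] {a b : R} (T : Subalgebra F R) (ha : a ∈ T)
    (hb : b ∈ T) (y : Matrix (Fin 3) (Fin 3) F) : psi a b y ∈ T := by
  have he : e F a ∈ T := T.smul_mem (add_mem (add_mem (one_mem T) ha) (mul_mem ha ha)) _
  refine sum_mem fun i _ => sum_mem fun j _ => T.smul_mem (mul_mem ?_ ?_) _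
  · fin_cases i
    exacts [he, mul_mem hb he, mul_mem (mul_mem hb hb) he]
  · fin_cases j
    exacts [he, mul_mem he (mul_mem hb hb), mul_mem he hb]

section Star

variable {F : Type} [Field F] [StarRing F] {n : ℕ} {a b : Matrix (Fin n) (Fin n) F} {ω : F}

theorem star_of_cube {a : Matrix (Fin n) (Fin n) F} (h3 : a * a * a = 1) (hu : aᴴ * a = 1) : aᴴ = a * a := by
  calc aᴴ = aᴴ * (a * a * a) := by rw [h3, mul_one]
    _ = a * a := by rw [mul_assoc a, ← mul_assoc, hu, one_mul]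

theorem psi_star (h : Hs a b ω) (ua : aᴴ * a = 1) (ub : bᴴ * b = 1) (y : Matrix (Fin 3) (Fin 3) F) :
    (psi a b y)ᴴ = psi a b yᴴ := by
  have sa := star_of_cube h.aaa ua
  have sb := star_of_cube h.bbb ub
  have se : (e F a)ᴴ = e F a := by
    have h1 : a * a * (a * a) = a := by rw [← mul_assoc, h.aaa, one_mul]
    simp only [e, conjTranspose_smul, conjTranspose_add, conjTranspose_one, conjTranspose_mul, sa, h1, star_inv₀,
      star_ofNat]
    rw [add_right_comm]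
  have h2 : b * b * (b * b) = b := by rw [← mul_assoc, h.bbb, one_mul]
  have sV : ∀ i, (V F a b i)ᴴ = U F a b i := fun i => by
    (revert i; simp only [V, U, conjTranspose_mul, se, sb, h2, _root_.Fin.forall_fin_succ, Fin.isValue, _root_.Matrix.cons_val_zero, _root_.Matrix.cons_val_succ, _root_.Matrix.cons_val_fin_one, _root_.implies_true, _root_.and_self])
  have sU : ∀ i, (U F a b i)ᴴ = V F a b i := fun i => by rw [← sV, conjTranspose_conjTranspose]
  simp only [psi, conjTranspose_sum, conjTranspose_smul, conjTranspose_mul, sV, sU, conjTranspose_apply]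
  exact Finset.sum_comm

theorem star_c (h : IsPrimitiveRoot ω 3) (hs : star ω = ω ^ 2) :
    star (ω - ω ^ 2)⁻¹ * (ω - ω ^ 2)⁻¹ * 3 = 1 := by
  have h1 : star (ω - ω ^ 2) * (ω - ω ^ 2) = 3 := by
    rw [star_sub, star_pow, hs]
    linear_combination (-3 + 3 * ω - 2 * ω ^ 3 + ω ^ 4) * wsum h
  rw [star_inv₀, ← mul_inv, h1, inv_mul_cancel₀ (three_ne h)]

attribute [-instance] instNoNatZeroDivisorsOfIsAddTorsionFree instIsCharPOfIsLeftCancelAddOfCharP in
theorem P1_unit (h : IsPrimitiveRoot ω 3) (hs : star ω = ω ^ 2) :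
    ((ω - ω ^ 2)⁻¹ • P1 ω)ᴴ * ((ω - ω ^ 2)⁻¹ • P1 ω) = 1 := by
  have h1 : (P1 ω)ᴴ * P1 ω = (3 : F) • (1 : Matrix (Fin 3) (Fin 3) F) := by
    have := wsum h
    have := w3 h
    ext i j
    (revert i j; simp only [P1, mul_apply, Fin.sum_univ_three, hs, _root_.Fin.forall_fin_succ, _root_.Matrix.conjTranspose_apply, _root_.Matrix.of_apply, _root_.Matrix.cons_val', _root_.Matrix.cons_val_fin_one, Fin.isValue, _root_.Matrix.cons_val_zero, _root_.Matrix.cons_val_one, _root_.Matrix.cons_val, _root_.Matrix.smul_apply, _root_.smul_eq_mul, _root_.mul_one, _root_.Matrix.cons_val_succ, _root_.IsEmpty.forall_iff, _root_.and_true, _root_.star_one, _root_.Matrix.one_apply_eq, _root_.one_mul, Nat.reduceAdd, _root_.Fin.succ_zero_eq_one, _root_.ne_eq, _root_.zero_ne_one, _root_.not_false_eq_true, _root_.Matrix.one_apply_ne, _root_.MulZeroClass.mul_zero, _root_.Fin.succ_one_eq_two, Fin.reduceEq, _root_.Fin.succ_ne_zero, _root_.star_pow])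 <;> grobner
  rw [conjTranspose_smul, smul_mul_assoc, mul_smul_comm, h1, smul_smul, smul_smul, star_c h hs, one_smul]

attribute [-instance] instNoNatZeroDivisorsOfIsAddTorsionFree instIsCharPOfIsLeftCancelAddOfCharP in
theorem P2_unit (h : IsPrimitiveRoot ω 3) (hs : star ω = ω ^ 2) :
    ((ω - ω ^ 2)⁻¹ • P2 ω)ᴴ * ((ω - ω ^ 2)⁻¹ • P2 ω) = 1 := by
  have h1 : (P2 ω)ᴴ * P2 ω = (3 : F) • (1 : Matrix (Fin 3) (Fin 3) F) := by
    have := wsum h
    have := w3 h
    ext i j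
    (revert i j; simp only [P2, mul_apply, Fin.sum_univ_three, hs, _root_.Fin.forall_fin_succ, _root_.Matrix.conjTranspose_apply, _root_.Matrix.of_apply, _root_.Matrix.cons_val', _root_.Matrix.cons_val_fin_one, Fin.isValue, _root_.Matrix.cons_val_zero, _root_.Matrix.cons_val_one, _root_.Matrix.cons_val, _root_.Matrix.smul_apply, _root_.smul_eq_mul, _root_.mul_one, _root_.Matrix.cons_val_succ, _root_.IsEmpty.forall_iff, _root_.and_true, _root_.star_one, _root_.Matrix.one_apply_eq, _root_.one_mul, Nat.reduceAdd, _root_.Fin.succ_zero_eq_one, _root_.ne_eq, _root_.zero_ne_one, _root_.not_false_eq_true, _root_.Matrix.one_apply_ne, _root_.MulZeroClass.mul_zero, _root_.Fin.succ_one_eq_two, Fin.reduceEq, _root_.Fin.succ_ne_zero, _root_.star_pow]) <;> grobner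
  rw [conjTranspose_smul, smul_mul_assoc, mul_smul_comm, h1, smul_smul, smul_smul, star_c h hs, one_smul]

omit [StarRing F] in
attribute [-instance] instNoNatZeroDivisorsOfIsAddTorsionFree instIsCharPOfIsLeftCancelAddOfCharP in
theorem P1_four (h : IsPrimitiveRoot ω 3) : P1 ω ^ 4 = (9 : F) • (1 : Matrix (Fin 3) (Fin 3) F) := by
  have h1 : P1 ω * P1 ω = (3 : F) • !![1, 0, 0; 0, 0, 1; 0, 1, 0] := by
    have := wsum h
    have := w3 h
    ext i j
    (revert i j; simp only [P1, mul_apply, Fin.sum_univ_three, _root_.Fin.forall_fin_succ, _root_.Matrix.of_apply, _root_.Matrix.cons_val', _root_.Matrix.cons_val_fin_one, Fin.isValue, _root_.Matrix.cons_val_zero, _root_.Matrix.cons_val_one, _root_.Matrix.cons_val, _root_.Matrix.smul_apply, _root_.smul_eq_mul, _root_.mul_one, _root_.Matrix.cons_val_succ, _root_.forall_const, _root_.one_mul, _root_.MulZeroClass.mul_zero]) <;> grobner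
  rw [show P1 ω ^ 4 = P1 ω * P1 ω * (P1 ω * P1 ω) by noncomm_ring, h1]
  ext i j
  (revert i j; simp only [mul_apply, Fin.sum_univ_three, _root_.Fin.forall_fin_succ, _root_.Matrix.smul_of, _root_.Matrix.smul_cons, _root_.smul_eq_mul, _root_.mul_one, _root_.MulZeroClass.mul_zero, _root_.Matrix.smul_empty, _root_.Matrix.of_apply, _root_.Matrix.cons_val', _root_.Matrix.cons_val_fin_one, Fin.isValue, _root_.Matrix.cons_val_zero, _root_.Matrix.cons_val_one, _root_.Matrix.cons_val, _root_.Matrix.smul_apply, _root_.add_zero, _root_.Matrix.cons_val_succ, _root_.zero_add, _root_.IsEmpty.forall_iff, _root_.and_true, _root_.Matrix.one_apply_eq, _root_.MulZeroClass.zero_mul, Nat.reduceAdd, _root_.Fin.succ_zero_eq_one, _root_.ne_eq, _root_.zero_ne_one, _root_.not_false_eq_true, _root_.Matrix.one_apply_ne, _root_.Fin.succ_one_eq_two, Fin.reduceEq, _root_.and_self, _root_.Fin.succ_ne_zero, _root_.mul_eq_zero, _root_.true_or,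 _root_.true_and, _root_.zero_eq_mul, _root_.or_true]) <;> (repeat' with_reducible apply And.intro) <;> norm_num

omit [StarRing F] in
attribute [-instance] instNoNatZeroDivisorsOfIsAddTorsionFree instIsCharPOfIsLeftCancelAddOfCharP in
theorem P2_four (h : IsPrimitiveRoot ω 3) : P2 ω ^ 4 = (9 : F) • (1 : Matrix (Fin 3) (Fin 3) F) := by
  have := wsum h
  have := w3 h
  have h1 : P2 ω * P2 ω = (3 : F) • !![1, 0, 0; 0, 0, ω ^ 2; 0, ω, 0] := by
    ext i j
    (revert i j; simp only [P2, mul_apply, Fin.sum_univ_three, _root_.Fin.forall_fin_succ, _root_.Matrix.of_apply, _root_.Matrix.cons_val', _root_.Matrix.cons_val_fin_one, Fin.isValue, _root_.Matrix.cons_val_zero, _root_.Matrix.cons_val_one, _root_.Matrix.cons_val, _root_.Matrix.smul_apply, _root_.smul_eq_mul, _root_.mul_one, _root_.Matrix.cons_val_succ, _root_.forall_const, _root_.one_mul, _root_.MulZeroClass.mul_zero]) <;> grobner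
  rw [show P2 ω ^ 4 = P2 ω * P2 ω * (P2 ω * P2 ω) by noncomm_ring, h1]
  ext i j
  (revert i j; simp only [mul_apply, Fin.sum_univ_three, _root_.Fin.forall_fin_succ, _root_.Matrix.smul_of, _root_.Matrix.smul_cons, _root_.smul_eq_mul, _root_.mul_one, _root_.MulZeroClass.mul_zero, _root_.Matrix.smul_empty, _root_.Matrix.of_apply, _root_.Matrix.cons_val', _root_.Matrix.cons_val_fin_one, Fin.isValue, _root_.Matrix.cons_val_zero, _root_.Matrix.cons_val_one, _root_.Matrix.cons_val, _root_.Matrix.smul_apply, _root_.add_zero, _root_.Matrix.cons_val_succ, _root_.zero_add, _root_.IsEmpty.forall_iff, _root_.and_true, _root_.Matrix.one_apply_eq, _root_.MulZeroClass.zero_mul, Nat.reduceAdd, _root_.Fin.succ_zero_eq_one, _root_.ne_eq, _root_.zero_ne_one, _root_.not_false_eq_true, _root_.Matrix.one_apply_ne, _root_.Fin.succ_one_eq_two, Fin.reduceEq, _root_.and_self, _root_.Fin.succ_ne_zero, _root_.mul_eq_zero, _root_.true_or,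 _root_.true_and, _root_.zero_eq_mul, _root_.or_true]) <;> grobner

end Star

variable {F : Type} [Field F] [Fintype F] {n q : ℕ}

theorem mg (hF : Fintype.card F = q ^ 2) (hn : 3 ≤ n) :
    MG F (mt : SU n F q →* Matrix (Fin n) (Fin n) F) (QuotientGroup.mk' (Subgroup.center (SU n F q))) :=
  ⟨mt_inj, QuotientGroup.mk'_surjective _, fun g => QuotientGroup.eq_one_iff g, fun _ hg => smul_of_center hF hn hg⟩

/-- `SU` covers the perfect central extensions of `PSU` -/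
theorem exists_rho (hF : Fintype.card F = q ^ 2) (hn : 3 ≤ n) (h32 : ¬ (n = 3 ∧ q = 2))
    (hexc : (n, q) ∉ ({(4, 2), (4, 3), (6, 2)} : Set (ℕ × ℕ))) {G : Type} [Group G] [Finite G]
    (hG : commutator G = ⊤) (σ : G →* PSU n F q) (hσ : Function.Surjective σ) (hc : σ.ker ≤ Subgroup.center G) :
    ∃ ρ : SU n F q →* G, ∀ x, σ (ρ x) = QuotientGroup.mk' _ x := by
  have hperf := HermPerfect.commutator_SU_eq_top hF hn h32
  have hS : commutator (PSU n F q) = ⊤ := by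
    have h1 : (commutator G).map σ = ⁅σ.range, σ.range⁆ := map_commutator_eq G σ
    rw [hG, ← MonoidHom.range_eq_map, MonoidHom.range_eq_top.2 hσ] at h1
    rw [commutator_def]
    exact h1.symm
  have : NeZero (Nat.gcd n (q + 1)) := ⟨Nat.gcd_ne_zero_left (by omega)⟩
  obtain ⟨ρ, -, h⟩ := H95.StemCover.exists_cover' hS (S2089.result n q hF hn h32 hexc) (QuotientGroup.mk' _)
    (H95.StemCover.isStem hperf (QuotientGroup.mk'_surjective _) (QuotientGroup.ker_mk' _).le)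
    (by rw [QuotientGroup.ker_mk', S0279.result hF n hn, Nat.card_congr Multiplicative.toAdd, Nat.card_zmod])
    hG σ hσ hc
  exact ⟨ρ, h⟩

/-- the semilinear automorphisms which preserve the pair preserve the algebra -/
theorem semi_alg [NeZero n] {a b : SU n F q} {ω : F} (h : Hs (mt a) (mt b) ω) (A : GU n F q) (τ : F ≃+* F)
    (ha : PSUAutCount.semiConj A τ a ∈ Alg h) (hb : PSUAutCount.semiConj A τ b ∈ Alg h) {x : SU n F q}
    (hx : x ∈ Alg h) : PSUAutCount.semiConj A τ x ∈ Alg h := by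
  let φ : Matrix (Fin n) (Fin n) F →+* Matrix (Fin n) (Fin n) F :=
    { toFun := fun y => PSUAutCount.gm A * y.map τ * PSUAutCount.gm A⁻¹
      map_one' := by rw [Matrix.map_one _ (map_zero τ) (map_one τ), mul_one, PSUAutCount.gm_mul_inv]
      map_mul' := fun y z => by
        rw [Matrix.map_mul]
        simp only [mul_assoc]
        rw [← mul_assoc (PSUAutCount.gm A⁻¹), PSUAutCount.gm_inv_mul, one_mul]
      map_zero' := by rw [Matrix.map_zero _ (map_zero τ), mul_zero, zero_mul]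
      map_add' := fun y z => by rw [Matrix.map_add _ (map_add τ), mul_add, add_mul] }
  have hφ : ∀ g : SU n F q, mt (PSUAutCount.semiConj A τ g) = φ (mt g) := fun _ => rfl
  let T : Subalgebra F (Matrix (Fin n) (Fin n) F) :=
    { h.psiH.range.toSubsemiring.comap φ with
      algebraMap_mem' := fun s => by
        change PSUAutCount.gm A * (algebraMap F (Matrix (Fin n) (Fin n) F) s).map τ * PSUAutCount.gm A⁻¹ ∈
          h.psiH.range
        have h1 : (algebraMap F (Matrix (Fin n) (Fin n) F) s).map τ = τ s • (1 : Matrix (Fin n) (Fin n) F) := by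
          ext i j
          simp [algebraMap_matrix_apply, one_apply, apply_ite τ]
        rw [h1, mul_smul_comm, smul_mul_assoc, mul_one, PSUAutCount.gm_mul_inv]
        exact Subalgebra.smul_mem _ (one_mem _) _ }
  have hT : ∀ g : SU n F q, mt g ∈ T ↔ PSUAutCount.semiConj A τ g ∈ Alg h := fun g =>
    ⟨fun ⟨y, hy⟩ => ⟨y, hy.symm⟩, fun ⟨y, hy⟩ => ⟨y, hy.symm⟩⟩
  obtain ⟨y, hy⟩ := hx
  exact (hT x).1 (hy ▸ psi_mem T ((hT a).2 ha) ((hT b).2 hb) y)

/-- the automorphisms of `G` which fix `D` lift to automorphisms of `SU` which fix the algebra -/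
theorem exists_lift [NeZero n] (hF : Fintype.card F = q ^ 2) (hn : 3 ≤ n) (h32 : ¬ (n = 3 ∧ q = 2))
    {G : Type} [Group G] {σ : G →* PSU n F q} (hσ : Function.Surjective σ) (hk : σ.ker = Subgroup.center G)
    {ρ : SU n F q →* G} (hρ : ∀ x, σ (ρ x) = QuotientGroup.mk' _ x) {a b : SU n F q} {ω : F}
    (h : Hs (mt a) (mt b) ω) {D : Subgroup G}
    (hQ : D.map σ = Subgroup.closure {(QuotientGroup.mk a : PSU n F q), QuotientGroup.mk b}) (α : MulAut G)
    (hα : ∀ x, α x ∈ D ↔ x ∈ D) :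
    ∃ Ψ : SU n F q →* SU n F q, (∀ x, α (ρ x) = ρ (Ψ x)) ∧ (Alg h).map Ψ ≤ Alg h := by
  obtain ⟨β, hβ⟩ := exists_ind hσ (α := α) (fun g hg => hk ▸ aut_center α (hk ▸ hg))
    (fun g hg => hk ▸ aut_center α⁻¹ (hk ▸ hg))
  obtain ⟨A, τ, rfl⟩ := PSUAutMain.exists_toAut hF hn h32 β
  have key : ∀ x : SU n F q, (QuotientGroup.mk x : PSU n F q) ∈ D.map σ → PSUAutCount.semiConj A τ x ∈ Alg h := by
    rintro x ⟨d, hd, hx⟩
    have h1 : (QuotientGroup.mk (PSUAutCount.semiConj A τ x) : PSU n F q) ∈ D.map σ :=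
      ⟨α d, (hα d).2 hd, by rw [hβ, hx]; rfl⟩
    obtain ⟨y, hy⟩ := mt_mem_of_mk_mem hF hn h.psiH.range ⟨_, h.psi_mA⟩ ⟨_, h.psi_mB⟩ (hQ ▸ h1)
    exact ⟨y, hy.symm⟩
  refine ⟨(PSUAutCount.semiConj A τ).toMonoidHom, fun x => DFunLike.congr_fun
    (hom_ext (HermPerfect.commutator_SU_eq_top hF hn h32) (α.toMonoidHom.comp ρ)
      (ρ.comp (PSUAutCount.semiConj A τ).toMonoidHom) fun x => ?_) x, ?_⟩
  · rw [← hk, MonoidHom.mem_ker, map_mul, map_inv, mul_inv_eq_one]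
    change σ (α (ρ x)) = σ (ρ (PSUAutCount.semiConj A τ x))
    rw [hβ, hρ, hρ]
    rfl
  · rintro _ ⟨x, hx, rfl⟩
    exact semi_alg h A τ (key a (hQ ▸ Subgroup.subset_closure (by simp)))
      (key b (hQ ▸ Subgroup.subset_closure (by simp))) hx

/-- the embedding of `SU₃` -/
theorem exists_emb [NeZero n] [StarRing F] (hs : ∀ x : F, star x = x ^ q) (hF : Fintype.card F = q ^ 2) (hq : q ≠ 2)
    {a b : SU n F q} {ω : F} (h : Hs (mt a) (mt b) ω) {y : Matrix (Fin 3) (Fin 3) F} (hd : y.det = 1)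
    (hu : yᴴ * y = 1) : ∃ g ∈ ⁅Alg h, Alg h⁆, mt g = psi (mt a) (mt b) y := by
  have hperf := HermPerfect.commutator_SU_eq_top hF le_rfl (fun h => hq h.2)
  let f : SU 3 F q →* Matrix (Fin n) (Fin n) F := (h.psiH : Matrix (Fin 3) (Fin 3) F →* _).comp mt
  have hf : ∀ x, f x = psi (mt a) (mt b) (mt x) := fun _ => rfl
  have hdet : ∀ x, (f x).det = 1 := fun x => by
    have h1 := Abelianization.commutator_subset_ker ((detMonoidHom.comp f).toHomUnits) (hperf ▸ Subgroup.mem_top x)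
    exact congrArg Units.val (MonoidHom.mem_ker.1 h1)
  let ι : SU 3 F q →* SU n F q :=
    { toFun := fun x => mkSU hs (f x) (hdet x) (by
        rw [hf, psi_star h (star_mul_mt hs a) (star_mul_mt hs b), ← h.psi_mul, star_mul_mt hs, h.psi_one])
      map_one' := mt_inj (by rw [mt_mkSU, map_one, map_one])
      map_mul' := fun x y => mt_inj (map_mul f x y) }
  have h1 : (⊤ : Subgroup (SU 3 F q)).map ι ≤ Alg h := by
    rintro _ ⟨x, -, rfl⟩
    exact ⟨mt x, rfl⟩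
  refine ⟨ι (mkSU hs y hd hu), Subgroup.commutator_mono h1 h1 ?_, rfl⟩
  rw [← Subgroup.map_commutator, ← commutator_def, hperf]
  exact ⟨_, Subgroup.mem_top _, rfl⟩

theorem exists_four [NeZero n] [StarRing F] (hs : ∀ x : F, star x = x ^ q) (h3 : ∀ s : F, s ≠ 0 → s ^ 3 = 1)
    {a b : SU n F q} {ω : F} (h : Hs (mt a) (mt b) ω) {y : Matrix (Fin 3) (Fin 3) F} (h4 : y ^ 4 = 1)
    (hu : yᴴ * y = 1) : ∃ g ∈ Alg h, mt g = psi (mt a) (mt b) y := by
  have h1 : (psi (mt a) (mt b) y).det ^ 4 = 1 := by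
    rw [← det_pow, ← h.psiH_apply, ← map_pow, h4, map_one, det_one]
  have h2 : (psi (mt a) (mt b) y).det = 1 := by
    have h0 : (psi (mt a) (mt b) y).det ≠ 0 := fun hz => by simp [hz] at h1
    rwa [pow_succ, h3 _ h0, one_mul] at h1
  exact ⟨mkSU hs _ h2 (by rw [psi_star h (star_mul_mt hs a) (star_mul_mt hs b), ← h.psi_mul, hu, h.psi_one]),
    ⟨y, rfl⟩, rfl⟩

attribute [-instance] instNoNatZeroDivisorsOfIsAddTorsionFree instIsCharPOfIsLeftCancelAddOfCharP in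
/-- **[U2]** -/
theorem boxU2 (B : Blk) : BoxU2 := by
  intro F _ _ n q hF hn h32 G _ _ σ M bl D H hS
  have : Fact (Nat.Prime 3) := ⟨Nat.prime_three⟩
  by_cases h62 : n = 6 ∧ q = 2
  · obtain ⟨rfl, rfl⟩ := h62
    exact not_surv_six hF (B.pure G 3 M bl D _ σ H) hS
  obtain ⟨a, b, ω, hH, -, ⟨k, hk⟩, -, hQ⟩ := hS
  have : NeZero n := ⟨by omega⟩
  have h : Hs (mt a) (mt b) ω := hs_of_heis hH
  have h3n : 3 ∣ n := by
    have h1 := congrArg det h.comm
    rw [det_smul, det_mul, det_mul, det_mt, det_mt, Fintype.card_fin] at h1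
    exact hH.prim.dvd_of_pow_eq_one n (by simpa using h1.symm)
  obtain ⟨ρ, hρ⟩ := exists_rho hF hn h32 (by
    simp only [Set.mem_insert_iff, Set.mem_singleton_iff, Prod.mk.injEq]
    omega) H.perf σ H.surj H.ker.le
  let _ := starR hF
  have hs : ∀ x : F, star x = x ^ q := fun _ => rfl
  have hω : star ω = ω ^ 2 := by
    apply mul_right_cancel₀ (w0 hH.prim)
    rw [hs, ← pow_succ, ← pow_succ, hk, pow_mul, w3 hH.prim, one_pow]
  have hl := exists_lift hF hn h32 H.surj H.ker hρ h hQ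
  by_cases hq : q = 2
  · subst hq
    have h3 : ∀ s : F, s ≠ 0 → s ^ 3 = 1 := fun x hx => by
      simpa only [hF, _root_.Nat.reducePow, _root_.Nat.add_one_sub_one] using FiniteField.pow_card_sub_one_eq_one x hx
    have hc : ((ω - ω ^ 2)⁻¹) ^ 4 * 9 = 1 := by
      have h1 : (ω - ω ^ 2) ^ 4 = 9 := by
        have := wsum hH.prim
        (clear * - this; grobner)
      rw [inv_pow, ← h1, inv_mul_cancel₀ (pow_ne_zero _ (wsub hH.prim))]
    obtain ⟨g₁, k1, h1⟩ := exists_four hs h3 h (by rw [smul_pow, P1_four hH.prim, smul_smul, hc, one_smul])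
      (P1_unit hH.prim hω)
    obtain ⟨g₂, k2, h2⟩ := exists_four hs h3 h (by rw [smul_pow, P2_four hH.prim, smul_smul, hc, one_smul])
      (P2_unit hH.prim hω)
    refine MG.core B H (mg hF hn) h hQ ρ hρ ((Alg h).map ρ) ?_ ?_ h1 h2 ⟨g₁, k1, rfl⟩ ⟨g₂, k2, rfl⟩
    · rintro α hα _ ⟨x, hx, rfl⟩
      obtain ⟨Ψ, e, hΨ⟩ := hl α hα
      exact ⟨Ψ x, hΨ ⟨x, hx, rfl⟩, (e x).symm⟩
    · rintro _ ⟨g, ⟨y, hy⟩, rfl⟩
      obtain ⟨y', hy'⟩ := (Alg h).inv_mem ⟨y, hy⟩
      exact ⟨g, y, 1, rfl, hy, h3 _ (left_ne_zero_of_mul_eq_one (det_inv h hy hy'))⟩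
  · obtain ⟨g₁, k1, h1⟩ := exists_emb hs hF hq h (det_P1 hH.prim) (P1_unit hH.prim hω)
    obtain ⟨g₂, k2, h2⟩ := exists_emb hs hF hq h (det_P2 hH.prim) (P2_unit hH.prim hω)
    refine MG.core B H (mg hF hn) h hQ ρ hρ (⁅Alg h, Alg h⁆.map ρ) ?_ ?_ h1 h2 ⟨g₁, k1, rfl⟩ ⟨g₂, k2, rfl⟩
    · rintro α hα _ ⟨x, hx, rfl⟩
      obtain ⟨Ψ, e, hΨ⟩ := hl α hα
      have h3 := Subgroup.commutator_mono hΨ hΨ
      rw [← Subgroup.map_commutator] at h3
      exact ⟨Ψ x, h3 ⟨x, hx, rfl⟩, (e x).symm⟩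
    · rintro _ ⟨g, hg, rfl⟩
      obtain ⟨y, hy, hd⟩ := comm_le_Alg1 h hg
      exact ⟨g, y, 0, rfl, hy, by rw [hd, one_pow]⟩

end Cfsg.Agent.TO.U2
end

-- part: TO/Fin/Asm
section
/-!
# S4817: what is left (helper54)
-/

set_option autoImplicit false

namespace Cfsg.Agent.TO.Fin

open Cfsg Cfsg.Agent.TO.X

/-- the open boxes -/
structure Left : Prop where
  x3 : Exc 3
  x5 : Exc 5
  x7 : Exc 7
  x11 : ∀ p, p.Prime → 11 ≤ p → Exc p
  g2 : RowFor (fun p S _ => ∃ (F : Type) (_ : Field F) (_ : Fintype F), (p : F) ≠ 0 ∧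
    3 ≤ Fintype.card F ∧ Nonempty (S ≃* Lie.chevG2.group F))
  td4 : RowFor (fun p S _ => ∃ (K : Type) (_ : Field K) (_ : Fintype K) (q : ℕ), (p : K) ≠ 0 ∧
    IsPrimePow q ∧ Fintype.card K = q ^ 3 ∧ Nonempty (S ≃* Lie.twistedD4 K q))
  tf4 : RowFor (fun _ S _ => Lie.Iso2F4 S)

theorem Left.rows (h : Left) : Rows :=
  have k := five h.x3 h.x5 h.x7 h.x11
  { alt := SM.rowAlt blk (DC.rowLie blk)
    lie := DC.rowLie blk
    psl := rowPsl blk (boxL2 blk)
    psp := FO.rowPsp blk (S4.boxS4 blk)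
    psu := rowPsu blk (U2.boxU2 blk)
    oodd := FO.rowOodd blk
    oplus := FO.rowOplus blk (boxD4A blk) (D4B.boxD4B blk) (D4B.boxD4C blk)
    ominus := FO.rowOminus blk
    g2 := h.g2
    f4 := k.f4
    e6 := k.e6
    e7 := k.e7
    e8 := k.e8
    te6 := k.te6
    td4 := h.td4
    sz := DC.rowSz blk
    ree := DC.rowRee blk
    tf4 := h.tf4
    tits := SM.rowTits blk
    spor := SM.rowSpor blk }

universe u

/-- **the statement from the open boxes and the classification** -/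
theorem Left.final (h : Left) (cfsg : ∀ (S : Type) [Group S] [Finite S] [IsSimpleGroup S], IsKnownSimple' S)
    {S : Type u} [Group S] [Finite S] (hq : IsQuasisimple S) (p : ℕ) [Fact p.Prime] (hp : p ≠ 2) (M : Ideal AlgInt)
    (hM : IsPModular p M) (b : Set (IrrCharacter S)) (hb : IsPBlock M b) (D : Subgroup S)
    (hD : IsDefectGroup p M b D) (hnc : ¬ IsCyclic D) :
    (∃ χ₁ ∈ b, ∃ χ₂ ∈ b, ∃ χ₃ ∈ b,
        (∀ α : S ≃* S, (fun s => (χ₂ : S → ℂ) (α s)) ≠ (χ₁ : S → ℂ)) ∧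
        (∀ α : S ≃* S, (fun s => (χ₃ : S → ℂ) (α s)) ≠ (χ₁ : S → ℂ)) ∧
        (∀ α : S ≃* S, (fun s => (χ₃ : S → ℂ) (α s)) ≠ (χ₂ : S → ℂ))) ∨
      (∀ χ ∈ b, ∀ ψ ∈ b, charDegree (χ : S → ℂ) = charDegree (ψ : S → ℂ)) :=
  h.rows.final blk.sub blk.can0 blk.can2 cfsg hq p hp M hM b hb D hD hnc

end Cfsg.Agent.TO.Fin
end

private theorem dce_b2238e9d8567 : _root_.True := by
  try have : _root_.True := by simp only [_root_.Cfsg.Agent.TO.L2.Alg.congr_simp]
  try have : _root_.True := by simp only [_root_.Cfsg.Agent.TO.Ce.eq_1]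
  try have : _root_.True := by simp only [_root_.Cfsg.Agent.TO.U2.dA.eq_1]
  try have : _root_.True := by simp only [_root_.Cfsg.Agent.TO.U2.dg.eq_1]
  try have : _root_.True := by simp only [_root_.Cfsg.Agent.TO.S4.Fr.W.congr_simp]
  try have : _root_.True := by simp only [_root_.Cfsg.Agent.TO.U2.dB.eq_1]
  try have : _root_.True := by simp only [_root_.Cfsg.Agent.TO.U2.cols.eq_1]
  exact _root_.True.intro
end
end
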